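import Groth.Agent.EGA43.K132.FlatImage
import Groth.Agent.Ega43.GeomFibre
import Groth.Agent.S0384
import Groth.Agent.S1363
import Groth.Agent.S2502
import Mathlib.AlgebraicGeometry.Morphisms.Immersion
import Mathlib.AlgebraicGeometry.Noetherian

/-!
# Flat morphisms over a discrete valuation ring whose closed fibre is proper

* `geometricallyConnected_of_specializes`: geometric connectedness of fibres of flat proper morphisms
  passes to specializations (with nonempty fibre);
* `isProper_of_dvr`: a flat separated morphism of finite type over a discrete valuation ring with nonempty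
  proper closed fibre and geometrically connected generic fibre is proper.
-/

set_option autoImplicit false
universe u

open CategoryTheory CategoryTheory.Limits AlgebraicGeometry Groth.Agent

namespace K132.DvrProper

theorem nGeomConnComp_ne_zero_of_nonempty {X Y : Scheme.{u}} (f : X ⟶ Y) (y : Y)
    [Nonempty (f.fiber y)] : MoreMor.nGeomConnComp f y ≠ 0 := by
  have h1 : Surjective (f.fiberToSpecResidueField y) := by
    refine ⟨fun p => ?_⟩
    obtain ⟨x⟩ : Nonempty (f.fiber y) := inferInstance
    exact ⟨x, Subsingleton.elim (α := PrimeSpectrum (Y.residueField y)) _ _⟩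
  have h2 : Surjective (pullback.snd (f.fiberToSpecResidueField y) (Spec.map (CommRingCat.ofHom
      (algebraMap (Y.residueField y) (SeparableClosure (Y.residueField y)))))) := inferInstance
  obtain ⟨x, -⟩ := h2.surj (IsLocalRing.closedPoint (SeparableClosure (Y.residueField y)))
  intro h
  rw [MoreMor.nGeomConnComp, ENat.card_eq_zero_iff_empty] at h
  exact h.false (ConnectedComponents.mk (α := ↥(MoreMor.geomFiber f y)) x)

/-- Geometric connectedness of the fibres of a flat proper morphism passes to specializations. -/
theorem geometricallyConnected_of_specializes {Z S : Scheme.{u}} (h : Z ⟶ S) [IsProper h]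
    [Flat h] [LocallyOfFinitePresentation h] {y' y : S} (hs : y' ⤳ y) [Nonempty (h.fiber y)]
    (hc : GeometricallyConnected (h.fiberToSpecResidueField y')) :
    GeometricallyConnected (h.fiberToSpecResidueField y) := by
  have h1 := Ega43.GeomFibre.nGeomConnComp_eq_one h y' hc
  have h2 : MoreMor.nGeomConnComp h y ≤ 1 := by
    by_contra hlt
    rw [not_le] at hlt
    have h3 := S1363.result h y 1 hlt
    have h4 : ∀ᶠ z in nhds y', 1 < MoreMor.nGeomConnComp h z := hs h3
    have h5 := h4.self_of_nhds
    rw [h1] at h5
    exact lt_irrefl _ h5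
  have h3 : MoreMor.nGeomConnComp h y ≠ 0 := nGeomConnComp_ne_zero_of_nonempty h y
  refine Ega43.GeomFibre.geometricallyConnected_of_nGeomConnComp h y (le_antisymm h2 ?_)
  exact Order.one_le_iff_ne_zero.mpr h3

/-- The map on fibres induced by a morphism over the base. -/
noncomputable def fibMap {X Z Y : Scheme.{u}} (j : X ⟶ Z) (h : Z ⟶ Y) (f : X ⟶ Y) (w : j ≫ h = f)
    (y : Y) : f.fiber y ⟶ h.fiber y :=
  pullback.lift (f.fiberι y ≫ j) (f.fiberToSpecResidueField y) (by
    rw [Category.assoc, w]; exact pullback.condition)

theorem fibMap_fst {X Z Y : Scheme.{u}} (j : X ⟶ Z) (h : Z ⟶ Y) (f : X ⟶ Y) (w : j ≫ h = f)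
    (y : Y) : fibMap j h f w y ≫ h.fiberι y = f.fiberι y ≫ j :=
  pullback.lift_fst _ _ _

theorem fibMap_snd {X Z Y : Scheme.{u}} (j : X ⟶ Z) (h : Z ⟶ Y) (f : X ⟶ Y) (w : j ≫ h = f)
    (y : Y) : fibMap j h f w y ≫ h.fiberToSpecResidueField y = f.fiberToSpecResidueField y :=
  pullback.lift_snd _ _ _

theorem isPullback_fibMap {X Z Y : Scheme.{u}} (j : X ⟶ Z) (h : Z ⟶ Y) (f : X ⟶ Y)
    (w : j ≫ h = f) (y : Y) : IsPullback (f.fiberι y) (fibMap j h f w y) j (h.fiberι y) := by
  refine IsPullback.of_bot (h₃₁ := Y.fromSpecResidueField y) (v₂₁ := h.fiberToSpecResidueField y)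
    (v₂₂ := h) ?_ (fibMap_fst j h f w y).symm (IsPullback.of_hasPullback h (Y.fromSpecResidueField y))
  rw [fibMap_snd, w]
  exact IsPullback.of_hasPullback f (Y.fromSpecResidueField y)

/-- A flat separated morphism of finite type over a discrete valuation ring with nonempty
proper closed fibre and geometrically connected generic fibre is proper. -/
theorem isProper_of_dvr (R : Type u) [CommRing R] [IsDomain R] [IsDiscreteValuationRing R]
    {X : Scheme.{u}} (f : X ⟶ Spec (CommRingCat.of R)) [Flat f] [IsSeparated f]
    [LocallyOfFiniteType f] [QuasiCompact f] (s η : ↥(Spec (CommRingCat.of R)))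
    (hs : ∀ C : Set ↥(Spec (CommRingCat.of R)), IsClosed C → C.Nonempty → s ∈ C)
    (hη : IsOpen ({η} : Set ↥(Spec (CommRingCat.of R)))) (hηs : η ⤳ s)
    [IsProper (f.fiberToSpecResidueField s)] [Nonempty (f.fiber s)]
    [GeometricallyConnected (f.fiberToSpecResidueField η)] : IsProper f := by
  obtain ⟨Xc, j0, g0, hj0, hj0q, hg0, hfac⟩ := S0384.result f
  have hflat0 : Flat (j0 ≫ g0) := by rw [hfac]; infer_instance
  let Z := j0.image
  let j : X ⟶ Z := j0.toImage
  let h : Z ⟶ Spec (CommRingCat.of R) := j0.imageι ≫ g0
  have hw : j ≫ h = f := by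
    change j0.toImage ≫ j0.imageι ≫ g0 = f
    rw [← Category.assoc, Scheme.Hom.toImage_imageι, hfac]
  have hjo : IsOpenImmersion j := inferInstanceAs (IsOpenImmersion j0.toImage)
  have hjd : IsDominant j := inferInstanceAs (IsDominant j0.toImage)
  have hh : IsProper h := inferInstanceAs (IsProper (j0.imageι ≫ g0))
  have hhf : Flat h := FlatImage.flat_image j0 g0
  have hhfp : LocallyOfFinitePresentation h :=
    LocallyOfFinitePresentation.iff_locallyOfFiniteType.mpr inferInstance
  -- the generic fibre of `Z` is geometrically connected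
  have hcon : GeometricallyConnected (h.fiberToSpecResidueField η) := by
    have hconX : ConnectedSpace (f.fiber η) :=
      GeometricallyConnected.connectedSpace_of_subsingleton (f.fiberToSpecResidueField η)
    have hne : Nonempty (f.fiber η) := inferInstance
    have hd : DenseRange (fibMap j h f hw η) := by
      have hemb := (h.fiberι η).isEmbedding
      have hopen : IsOpen (Set.range (h.fiberι η)) := by
        rw [Scheme.Hom.range_fiberι]
        exact hη.preimage h.continuous
      intro z
      rw [hemb.closure_eq_preimage_closure_image, Set.mem_preimage, mem_closure_iff]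
      intro U hU hzU
      have h1 : (U ∩ Set.range (h.fiberι η)).Nonempty := ⟨_, hzU, z, rfl⟩
      obtain ⟨w, hwU, hwX⟩ := (hjd.denseRange).inter_open_nonempty _ (hU.inter hopen) h1
      obtain ⟨x, rfl⟩ := hwX
      obtain ⟨z', hz'⟩ := hwU.2
      have hsq := isPullback_fibMap j h f hw η
      obtain ⟨x', hx1, hx2⟩ := Scheme.Pullback.exists_preimage_pullback (f := j) (g := h.fiberι η)
        x z' hz'.symm
      refine ⟨j x, hwU.1, ?_⟩
      refine ⟨z', ⟨hsq.isoPullback.inv x', ?_⟩, hz'⟩
      rw [← Scheme.Hom.comp_apply, hsq.isoPullback_inv_snd]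
      exact hx2
    have hpc : PreconnectedSpace (h.fiber η) :=
      hd.preconnectedSpace (fibMap j h f hw η).continuous
    have hc : ConnectedSpace (h.fiber η) :=
      { toPreconnectedSpace := hpc, toNonempty := hne.map (fibMap j h f hw η) }
    have hgc : GeometricallyConnected (fibMap j h f hw η ≫ h.fiberToSpecResidueField η) := by
      rw [fibMap_snd]; infer_instance
    exact @S2502.result ((Spec (CommRingCat.of R)).residueField η) _ _ _ (fibMap j h f hw η)
      (h.fiberToSpecResidueField η) hne hc hgc
  -- the closed fibre of `Z` is geometrically connected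
  have hnes : Nonempty (h.fiber s) := Nonempty.map (fibMap j h f hw s) inferInstance
  have hcons := geometricallyConnected_of_specializes h hηs hcon
  have hcs : ConnectedSpace (h.fiber s) :=
    GeometricallyConnected.connectedSpace_of_subsingleton (h.fiberToSpecResidueField s)
  -- the closed fibre of `X` is open and closed in the closed fibre of `Z`
  have hsq := isPullback_fibMap j h f hw s
  have ho : IsOpenImmersion (fibMap j h f hw s) :=
    MorphismProperty.of_isPullback (P := @IsOpenImmersion) hsq hjo
  have hp : IsProper (fibMap j h f hw s) := by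
    have h1 : IsProper (fibMap j h f hw s ≫ h.fiberToSpecResidueField s) := by
      rw [fibMap_snd]; infer_instance
    have h2 : IsSeparated (h.fiberToSpecResidueField s) :=
      inferInstanceAs (IsSeparated (pullback.snd h _))
    exact IsProper.of_comp (fibMap j h f hw s) (h.fiberToSpecResidueField s)
  have hclopen : IsClopen (Set.range (fibMap j h f hw s)) :=
    ⟨(fibMap j h f hw s).isClosedMap.isClosed_range, ho.isOpen_range⟩
  have hsurj : Set.range (fibMap j h f hw s) = Set.univ :=
    hclopen.eq_univ (Set.range_nonempty _)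
  -- `j` is surjective
  have hjs : Set.range j = Set.univ := by
    by_contra hne
    have h1 : (Set.range j)ᶜ.Nonempty := Set.nonempty_compl.mpr hne
    have h2 : IsClosed ((Set.range j)ᶜ) := hjo.isOpen_range.isClosed_compl
    obtain ⟨z, hz, hzs⟩ := hs _ (h.isClosedMap _ h2) (h1.image _)
    obtain ⟨z', rfl⟩ : z ∈ Set.range (h.fiberι s) := by
      rw [Scheme.Hom.range_fiberι]; exact hzs
    obtain ⟨x, rfl⟩ : z' ∈ Set.range (fibMap j h f hw s) := by rw [hsurj]; trivial
    apply hz
    rw [← Scheme.Hom.comp_apply, fibMap_fst]
    exact ⟨f.fiberι s x, rfl⟩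
  have hjiso : IsIso j := (isIso_iff_isOpenImmersion_and_epi_base j).mpr
    ⟨hjo, (TopCat.epi_iff_surjective _).mpr (Set.range_eq_univ.mp hjs)⟩
  rw [← hw]
  infer_instance

end K132.DvrProper
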