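import Mathlib.RingTheory.DiscreteValuationRing.Basic
import Mathlib.AlgebraicGeometry.Properties
import Mathlib.RingTheory.PrincipalIdealDomain

/-!
# The spectrum of a discrete valuation ring
-/

set_option autoImplicit false
universe u

open AlgebraicGeometry

namespace K132.DvrSpec

theorem genericPoint_eq (R : Type u) [CommRing R] [IsDomain R] :
    (genericPoint ↥(Spec (CommRingCat.of R)) : PrimeSpectrum R) = ⟨⊥, Ideal.isPrime_bot⟩ := by
  have h := genericPoint_spec ↥(Spec (CommRingCat.of R))
  have h2 : IsGenericPoint (⟨⊥, Ideal.isPrime_bot⟩ : PrimeSpectrum R)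
      (Set.univ : Set (PrimeSpectrum R)) := by
    rw [isGenericPoint_iff_specializes]
    intro y
    constructor
    · intro _; trivial
    · intro _
      rw [← PrimeSpectrum.le_iff_specializes]
      exact bot_le (a := y.asIdeal)
  exact h.eq h2

variable (R : Type u) [CommRing R] [IsDomain R] [IsDiscreteValuationRing R]

theorem isOpen_bot : IsOpen ({(⟨⊥, Ideal.isPrime_bot⟩ : PrimeSpectrum R)} :
    Set (PrimeSpectrum R)) := by
  obtain ⟨ϖ, hϖ⟩ := IsDiscreteValuationRing.exists_irreducible R
  convert (PrimeSpectrum.basicOpen ϖ).isOpen using 1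
  ext z
  rw [Set.mem_singleton_iff, SetLike.mem_coe, PrimeSpectrum.mem_basicOpen]
  constructor
  · rintro rfl
    exact fun h => hϖ.ne_zero (Ideal.mem_bot.mp h)
  · intro h
    by_contra hne
    apply h
    have h1 : z.asIdeal ≠ ⊥ := fun h' => hne (PrimeSpectrum.ext h')
    have h2 : z.asIdeal.IsMaximal := IsPrime.to_maximal_ideal h1
    rw [IsLocalRing.eq_maximalIdeal h2]
    exact (IsLocalRing.mem_maximalIdeal _).mpr hϖ.not_isUnit

theorem isOpen_genericPoint :
    IsOpen ({genericPoint ↥(Spec (CommRingCat.of R))} : Set ↥(Spec (CommRingCat.of R))) := by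
  have h := genericPoint_eq R
  rw [h]
  exact isOpen_bot R

theorem genericPoint_specializes' (s : ↥(Spec (CommRingCat.of R))) :
    genericPoint ↥(Spec (CommRingCat.of R)) ⤳ s := genericPoint_specializes s

theorem closedPoint_mem (C : Set ↥(Spec (CommRingCat.of R))) (hC : IsClosed C)
    (hne : C.Nonempty) : (IsLocalRing.closedPoint R : ↥(Spec (CommRingCat.of R))) ∈ C := by
  obtain ⟨z, hz⟩ := hne
  exact (IsLocalRing.specializes_closedPoint (R := R) z).mem_closed hC hz

theorem eq_or_eq (z : ↥(Spec (CommRingCat.of R))) :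
    z = genericPoint ↥(Spec (CommRingCat.of R)) ∨ z = IsLocalRing.closedPoint R := by
  by_cases h : z.asIdeal = ⊥
  · left
    rw [genericPoint_eq R]
    exact PrimeSpectrum.ext h
  · right
    have h1 : z.asIdeal.IsPrime := PrimeSpectrum.isPrime (R := R) z
    have h2 : z.asIdeal.IsMaximal := IsPrime.to_maximal_ideal h
    exact PrimeSpectrum.ext (IsLocalRing.eq_maximalIdeal h2)

end K132.DvrSpec
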