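import Groth.Agent.Ega4A.EquidimFlat
import Groth.Agent.Ega4fib.H117.EquidimDim
import Groth.Agent.AssSch.K109.FibAss
import Groth.Agent.AssSch.K109.Local
import Groth.Agent.CycA.SetupField
import Groth.Agent.CycB.RelDim2
import Mathlib.RingTheory.KrullDimension.Regular

/-!
# Equidimensional local rings without embedded primes

* `isEquidim_and_iff`: a Noetherian local ring is equidimensional without embedded primes iff all quotients
  by associated primes have the same dimension.
* `isEquidim_and_stalk_iff`: the local ring at `a` of a scheme locally of finite type over a field is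
  equidimensional without embedded primes iff all associated points specializing to `a` have the same
  transcendence degree.
-/

set_option autoImplicit false
universe u

open AlgebraicGeometry CategoryTheory IsLocalRing Groth.Agent

namespace K132.EquidimAss

theorem ringKrullDim_quotient_lt {R : Type u} [CommRing R]
    {q p : Ideal R} [q.IsPrime] (h : q < p) (d : ℕ) (hd : ringKrullDim (R ⧸ q) = d) :
    ringKrullDim (R ⧸ p) ≠ d := by
  intro hpd
  obtain ⟨x, hxp, hxq⟩ := SetLike.exists_of_lt h
  have h1 : ringKrullDim ((R ⧸ q) ⧸ Ideal.span {Ideal.Quotient.mk q x}) + 1 ≤ ringKrullDim (R ⧸ q) := by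
    refine ringKrullDim_quotient_succ_le_of_nonZeroDivisor ?_
    rw [mem_nonZeroDivisors_iff_ne_zero]
    rwa [ne_eq, Ideal.Quotient.eq_zero_iff_mem]
  have h2 : ringKrullDim (R ⧸ p) ≤ ringKrullDim ((R ⧸ q) ⧸ Ideal.span {Ideal.Quotient.mk q x}) := by
    let φ : R →+* (R ⧸ p) := Ideal.Quotient.mk p
    let ψ : (R ⧸ q) →+* (R ⧸ p) := Ideal.Quotient.factor h.le
    let χ : ((R ⧸ q) ⧸ Ideal.span {Ideal.Quotient.mk q x}) →+* (R ⧸ p) :=
      Ideal.Quotient.lift _ ψ (fun a ha => by
        have h3 : Ideal.span {Ideal.Quotient.mk q x} ≤ RingHom.ker ψ := by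
          rw [Ideal.span_singleton_le_iff_mem, RingHom.mem_ker]
          change Ideal.Quotient.factor h.le (Ideal.Quotient.mk q x) = 0
          rw [Ideal.Quotient.factor_mk]
          exact Ideal.Quotient.eq_zero_iff_mem.mpr hxp
        exact h3 ha)
    refine ringKrullDim_le_of_surjective χ ?_
    intro y
    obtain ⟨y, rfl⟩ := Ideal.Quotient.mk_surjective y
    exact ⟨Ideal.Quotient.mk _ (Ideal.Quotient.mk q y), rfl⟩
  rw [hd] at h1
  rw [hpd] at h2
  have h3 := (add_le_add_left h2 1).trans h1
  have h4 : ((d + 1 : ℕ) : WithBot ℕ∞) ≤ (d : ℕ) := by exact_mod_cast h3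
  have h5 : d + 1 ≤ d := by exact_mod_cast h4
  omega

theorem isEquidim_and_iff (R : Type u) [CommRing R] [IsNoetherianRing R] [IsLocalRing R] :
    (EGA4.IsEquidim R ∧ ∀ p ∈ associatedPrimes R R, p ∈ minimalPrimes R) ↔
      ∃ d : ℕ, ∀ p ∈ associatedPrimes R R, ringKrullDim (R ⧸ p) = (d : WithBot ℕ∞) := by
  obtain ⟨n, hn⟩ : ∃ n : ℕ, ringKrullDim R = n :=
    ⟨(LTSeries.longestOf (PrimeSpectrum R)).length,
      Order.krullDim_eq_length_of_finiteDimensionalOrder⟩
  constructor
  · rintro ⟨h1, h2⟩
    exact ⟨n, fun p hp => (h1 p (h2 p hp)).trans hn⟩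
  · rintro ⟨d, hd⟩
    have hmin : ∀ p ∈ minimalPrimes R, p ∈ associatedPrimes R R := by
      intro p hp
      have h3 := Module.associatedPrimes.minimalPrimes_annihilator_subset_associatedPrimes R R
      apply h3
      have : Module.annihilator R R = ⊥ := by
        rw [Module.annihilator_eq_bot]
        infer_instance
      rw [this]
      exact hp
    obtain ⟨p0, hp0, hp0'⟩ := Ega4A.EquidimFlat.exists_minimalPrimes_dim_eq' (R := R)
    have hdn : ringKrullDim R = d := by rw [← hp0', hd p0 (hmin p0 hp0)]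
    refine ⟨fun p hp => (hd p (hmin p hp)).trans hdn.symm, fun p hp => ?_⟩
    have hpp : p.IsPrime := hp.isPrime
    obtain ⟨q, hq, hqp⟩ := Ideal.exists_minimalPrimes_le (I := (⊥ : Ideal R)) (J := p) bot_le
    have hqprime : q.IsPrime := hq.1.1
    rcases hqp.lt_or_eq with h | h
    · exact absurd (hd p hp) (ringKrullDim_quotient_lt h d (hd q (hmin q hq)))
    · rw [← h]
      exact hq

theorem ringKrullDim_stalk_Spec_field (K : Type u) [Field K] (x : Spec (CommRingCat.of K)) :
    ringKrullDim ((Spec (CommRingCat.of K)).presheaf.stalk x) = 0 := by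
  rw [ringKrullDim_stalk_eq_coheight]
  have : Order.coheight x = 0 := by
    rw [Order.coheight_eq_zero]
    intro y _
    have h : y = x := Subsingleton.elim (α := PrimeSpectrum K) y x
    rw [h]
  rw [this]
  rfl

open Groth.Agent.CycB Groth.Agent.CycB.RelDim Groth.Agent.CycB.LocQuot

section Field

variable {k : Type u} [Field k] {F : Scheme.{u}} (g : F ⟶ Spec (CommRingCat.of k))
  [LocallyOfFiniteType g]

theorem ringKrullDim_add (a : F) (P : PrimeSpectrum (F.presheaf.stalk a)) (s t : ℕ)
    (hs : rtd g a = s) (ht : rtd g (ptOf P) = t) :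
    ringKrullDim (F.presheaf.stalk a ⧸ P.asIdeal) + (s : WithBot ℕ∞) = (t : WithBot ℕ∞) := by
  have h := Ega4fib.H117.EquidimDim.ringKrullDim_add_rtd g
    (CycA.SetupField.isUniversallyCatenary_stalk_Spec k _) (ptOf_specializes P) s t hs ht
  rw [← primeOf_asIdeal, primeOf_ptOf] at h
  rw [h]
  have h1 : ringKrullDim ((Spec (CommRingCat.of k)).presheaf.stalk (g a) ⧸
      P.asIdeal.comap (g.stalkMap a).hom) = 0 := by
    refine le_antisymm ?_ ringKrullDim_nonneg_of_nontrivial
    exact (ringKrullDim_quotient_le _).trans (ringKrullDim_stalk_Spec_field k _).le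
  rw [h1, zero_add]

theorem exists_rtd (a : F) : ∃ n : ℕ, rtd g a = n := by
  obtain ⟨n, hn⟩ := Cardinal.lt_aleph0.mp (rtd_lt_aleph0 g a)
  exact ⟨n, hn⟩

theorem ptOf_mem_ass_iff [IsLocallyNoetherian F] {a : F} (P : PrimeSpectrum (F.presheaf.stalk a)) :
    ptOf P ∈ AssSch.Ass (Coh.structureModule F) ↔
      P.asIdeal ∈ associatedPrimes (F.presheaf.stalk a) (F.presheaf.stalk a) := by
  rw [K109.Local.mem_ass_ptOf_iff (Coh.structureModule F) (Fdesc.StructMod.isQCoh_structureModule F) P]
  exact (Fdesc.StructMod.stalkEquiv a).symm.isAssociatedPrime_iff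

/-- The local ring at `a` is equidimensional without embedded primes iff all associated points specializing
to `a` have the same transcendence degree. -/
theorem isEquidim_and_stalk_iff (a : F) :
    (EGA4.IsEquidim (F.presheaf.stalk a) ∧
      ∀ p ∈ associatedPrimes (F.presheaf.stalk a) (F.presheaf.stalk a),
        p ∈ minimalPrimes (F.presheaf.stalk a)) ↔
      ∃ n : ℕ, ∀ z : F, z ⤳ a → z ∈ AssSch.Ass (Coh.structureModule F) → rtd g z = n := by
  have hLN : IsLocallyNoetherian F := LocallyOfFiniteType.isLocallyNoetherian g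
  rw [isEquidim_and_iff]
  obtain ⟨s, hs⟩ := exists_rtd g a
  constructor
  · rintro ⟨d, hd⟩
    refine ⟨d + s, fun z hz hass => ?_⟩
    obtain ⟨P, rfl⟩ : ∃ P : PrimeSpectrum (F.presheaf.stalk a), ptOf P = z :=
      ⟨primeOf hz, ptOf_primeOf hz⟩
    obtain ⟨t, ht⟩ := exists_rtd g (ptOf P)
    have h1 := ringKrullDim_add g a P s t hs ht
    rw [hd _ ((ptOf_mem_ass_iff P).mp hass)] at h1
    have h2 : d + s = t := by exact_mod_cast h1
    rw [ht, h2]
  · rintro ⟨n, hn⟩
    refine ⟨n - s, fun p hp => ?_⟩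
    let P : PrimeSpectrum (F.presheaf.stalk a) := ⟨p, hp.isPrime⟩
    have h1 := ringKrullDim_add g a P s n hs (hn _ (ptOf_specializes P) ((ptOf_mem_ass_iff P).mpr hp))
    have h2 : ringKrullDim (F.presheaf.stalk a ⧸ p) + (s : WithBot ℕ∞) = (n : WithBot ℕ∞) := h1
    have hpp : p.IsPrime := hp.isPrime
    have h3 : (0 : WithBot ℕ∞) ≤ ringKrullDim (F.presheaf.stalk a ⧸ p) :=
      ringKrullDim_nonneg_of_nontrivial
    generalize ringKrullDim (F.presheaf.stalk a ⧸ p) = r at h2 h3
    lift r to ℕ∞ using (by rintro rfl; simp at h3)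
    have h4 : r + (s : ℕ∞) = n := by exact_mod_cast h2
    lift r to ℕ using (by rintro rfl; simp at h4)
    have h5 : r + s = n := by exact_mod_cast h4
    have h6 : r = n - s := by omega
    rw [h6]
    rfl

end Field

end K132.EquidimAss
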