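import Groth.Agent.Subtr.K834.Val

/-!
# The schematic image of a flat scheme over a valuation ring is flat
-/

set_option autoImplicit false
set_option backward.isDefEq.respectTransparency false
universe u

open CategoryTheory CategoryTheory.Limits AlgebraicGeometry

namespace K132.FlatImage

variable {V : Type u} [CommRing V] [IsDomain V]

/-- Nonzero elements of a domain `V` act injectively on sections of a flat `V`-scheme. -/
theorem eq_zero_of_smul {X : Scheme.{u}} (f : X ⟶ Spec (CommRingCat.of V)) [Flat f]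
    (W : X.Opens) (v : V) (hv : v ≠ 0) (b : Γ(X, W))
    (h : ((Scheme.ΓSpecIso (CommRingCat.of V)).inv ≫ f.appLE ⊤ W le_top).hom v * b = 0) :
    b = 0 := by
  have key : ∀ (W' : X.affineOpens) (hW' : W'.1 ≤ W),
      X.presheaf.map (homOfLE hW').op b = 0 := by
    intro W' hW'
    have hflat : (f.appLE ⊤ W'.1 le_top).hom.Flat :=
      f.flat_appLE (isAffineOpen_top _) W'.2 le_top
    have hreg : IsSMulRegular Γ(Spec (CommRingCat.of V), ⊤)
        ((Scheme.ΓSpecIso (CommRingCat.of V)).inv.hom v) := by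
      intro a b hab
      let e := (Scheme.ΓSpecIso (CommRingCat.of V)).commRingCatIsoToRingEquiv
      apply e.injective
      have h1 : e ((Scheme.ΓSpecIso (CommRingCat.of V)).inv.hom v) = v := e.apply_symm_apply v
      have h2 := congrArg e hab
      simp only [smul_eq_mul, map_mul, h1] at h2
      exact mul_left_cancel₀ hv h2
    let _ : Algebra Γ(Spec (CommRingCat.of V), ⊤) Γ(X, W'.1) :=
      (f.appLE ⊤ W'.1 le_top).hom.toAlgebra
    have hfl : Module.Flat Γ(Spec (CommRingCat.of V), ⊤) Γ(X, W'.1) := hflat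
    have hreg' : IsSMulRegular Γ(X, W'.1) ((Scheme.ΓSpecIso (CommRingCat.of V)).inv.hom v) :=
      hreg.of_flat
    have h3 := congrArg (X.presheaf.map (homOfLE hW').op) h
    rw [map_mul, map_zero] at h3
    apply hreg'
    beta_reduce
    rw [smul_zero, Algebra.smul_def]
    rw [← h3]
    congr 1
    change (f.appLE ⊤ W'.1 le_top).hom ((Scheme.ΓSpecIso (CommRingCat.of V)).inv.hom v) =
      ((Scheme.ΓSpecIso (CommRingCat.of V)).inv ≫ f.appLE ⊤ W le_top ≫
        X.presheaf.map (homOfLE hW').op).hom v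
    rw [Scheme.Hom.appLE_map]
    rfl
  refine X.sheaf.eq_of_locally_eq' (fun W' : {W' : X.affineOpens // W'.1 ≤ W} => W'.1.1) W
    (fun W' => homOfLE W'.2) ?_ _ _ ?_
  · intro x hx
    obtain ⟨U, hU, hxU, hUW⟩ := X.isBasis_affineOpens.exists_subset_of_mem_open hx W.2
    rw [TopologicalSpace.Opens.mem_iSup]
    obtain ⟨U, hU, rfl⟩ := hU
    exact ⟨⟨⟨U, hU⟩, hUW⟩, hxU⟩
  · intro W'
    rw [map_zero]
    exact key W'.1 W'.2

variable [ValuationRing V]

/-- The schematic image of a flat scheme over a valuation ring is flat. -/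
theorem flat_image {X Z : Scheme.{u}} (j : X ⟶ Z) [QuasiCompact j]
    (g : Z ⟶ Spec (CommRingCat.of V)) [Flat (j ≫ g)] : Flat (j.imageι ≫ g) := by
  refine K834.Val.flat_subscheme g _ ?_
  intro U v hv a ha
  rw [Scheme.Hom.ker_apply, RingHom.mem_ker] at ha ⊢
  rw [map_mul] at ha
  refine eq_zero_of_smul (j ≫ g) (j ⁻¹ᵁ U.1) v hv _ ?_
  have e : ((Scheme.ΓSpecIso (CommRingCat.of V)).inv ≫ g.appLE ⊤ U.1 le_top) ≫ j.app U.1 =
      (Scheme.ΓSpecIso (CommRingCat.of V)).inv ≫ (j ≫ g).appLE ⊤ (j ⁻¹ᵁ U.1) le_top := by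
    rw [Category.assoc, Scheme.Hom.app_eq_appLE, Scheme.Hom.appLE_comp_appLE]
  have e' := congrArg (fun φ => φ.hom v) e
  simp only [CommRingCat.hom_comp, RingHom.comp_apply] at e' ha ⊢
  rw [← e']
  exact ha

end K132.FlatImage
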