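import Groth.Agent.Ega43.FlatKer
import Mathlib.CategoryTheory.Abelian.Projective.Resolution
import Mathlib.Algebra.Category.ModuleCat.Projective
import Mathlib.Algebra.Homology.ShortComplex.ModuleCat

/-!
# Resolutions by finite free modules

* `exists_resolution`: assembling a projective resolution from exact sequences of finite free modules;
* `exists_finite_free`: a finitely presented module, flat over the base, over a flat algebra of finite
  presentation has a resolution by finite free modules.
-/

set_option autoImplicit false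
universe u

open CategoryTheory CategoryTheory.Limits

namespace K132.FreeRes

section General

variable {B : Type u} [CommRing B]

/-- A projective resolution from a complex of projectives. -/
noncomputable def resOf (K : ChainComplex (ModuleCat.{u} B) ℕ) (M : ModuleCat.{u} B)
    (hK : ∀ n, Projective (K.X n))
    (hex : ∀ n, K.ExactAt (n + 1)) (π : K.X 0 ⟶ M) (w : K.d 1 0 ≫ π = 0)
    (he : (ShortComplex.mk (K.d 1 0) π w).Exact) [Epi π] : ProjectiveResolution M where
  complex := K
  projective := hK
  π := (ChainComplex.toSingle₀Equiv _ _).symm ⟨π, w⟩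
  quasiIso := ⟨fun n => by
    cases n
    · rw [ChainComplex.quasiIsoAt₀_iff, ShortComplex.quasiIso_iff_of_zeros']
      · refine (ShortComplex.exact_and_epi_g_iff_of_iso ?_).2 ⟨he, by dsimp; infer_instance⟩
        exact ShortComplex.isoMk (Iso.refl _) (Iso.refl _) (Iso.refl _)
          ((Category.id_comp _).trans (Category.comp_id _).symm)
          ((Category.id_comp _).trans ((Category.comp_id _).trans
            (ChainComplex.toSingle₀Equiv_symm_apply_f_zero _ _)).symm)
      · exact K.shape 0 0 (by simp)
      all_goals rfl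
    · rw [quasiIsoAt_iff_exactAt']
      · apply hex
      · apply ChainComplex.exactAt_succ_single_obj⟩

theorem exists_resolution (r : ℕ → ℕ)
    (d : ∀ n, (Fin (r (n + 1)) → B) →ₗ[B] (Fin (r n) → B))
    (hd : ∀ n, Function.Exact (d (n + 1)) (d n))
    (M : Type u) [AddCommGroup M] [Module B M] (π : (Fin (r 0) → B) →ₗ[B] M)
    (hπ : Function.Surjective π) (hdπ : Function.Exact (d 0) π) :
    ∃ P : ProjectiveResolution (ModuleCat.of B M),
      ∀ n : ℕ, Module.Finite B (P.complex.X n) ∧ Module.Free B (P.complex.X n) := by
  let X : ℕ → ModuleCat.{u} B := fun n => ModuleCat.of B (Fin (r n) → B)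
  let D : ∀ n, X (n + 1) ⟶ X n := fun n => ModuleCat.ofHom (d n)
  have hD : ∀ n, D (n + 1) ≫ D n = 0 := by
    intro n
    apply ModuleCat.hom_ext
    apply LinearMap.ext
    intro x
    exact (hd n).apply_apply_eq_zero x
  let K : ChainComplex (ModuleCat.{u} B) ℕ := ChainComplex.of X D hD
  have hKd : ∀ n, K.d (n + 1) n = D n := fun n => ChainComplex.of_d _ _ _
  have hw : K.d 1 0 ≫ (ModuleCat.ofHom π : X 0 ⟶ ModuleCat.of B M) = 0 := by
    rw [hKd 0]
    apply ModuleCat.hom_ext
    apply LinearMap.ext
    intro x
    exact hdπ.apply_apply_eq_zero x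
  have hK : ∀ n, Projective (K.X n) := by
    intro n
    have : Module.Projective B (Fin (r n) → B) := inferInstance
    exact (IsProjective.iff_projective (R := B) (Fin (r n) → B)).mp this
  have hex : ∀ n, K.ExactAt (n + 1) := by
    intro n
    rw [HomologicalComplex.exactAt_iff' _ (n + 1 + 1) (n + 1) n (by simp) (by simp),
      ShortComplex.ShortExact.moduleCat_exact_iff_function_exact]
    change Function.Exact (K.d (n + 1 + 1) (n + 1)).hom (K.d (n + 1) n).hom
    rw [hKd, hKd]
    exact hd n
  have he : (ShortComplex.mk (K.d 1 0) (ModuleCat.ofHom π : X 0 ⟶ ModuleCat.of B M) hw).Exact := by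
    rw [ShortComplex.ShortExact.moduleCat_exact_iff_function_exact]
    change Function.Exact (K.d 1 0).hom π
    rw [hKd 0]
    exact hdπ
  have hepi : Epi (ModuleCat.ofHom π : X 0 ⟶ ModuleCat.of B M) :=
    (ModuleCat.epi_iff_surjective _).mpr hπ
  refine ⟨resOf K (ModuleCat.of B M) hK hex (ModuleCat.ofHom π : X 0 ⟶ ModuleCat.of B M) hw he,
    fun n => ⟨?_, ?_⟩⟩
  · exact inferInstanceAs (Module.Finite B (Fin (r n) → B))
  · exact inferInstanceAs (Module.Free B (Fin (r n) → B))

end General

section Syz

variable (A B : Type u) [CommRing A] [CommRing B] [Algebra A B]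

/-- A finitely presented `B`-module which is flat over `A`. -/
structure Syz where
  /-- the module -/
  N : Type u
  [i1 : AddCommGroup N]
  [i2 : Module B N]
  [i3 : Module A N]
  [i4 : IsScalarTower A B N]
  [i5 : Module.FinitePresentation B N]
  [i6 : Module.Flat A N]

attribute [instance] Syz.i1 Syz.i2 Syz.i3 Syz.i4 Syz.i5 Syz.i6

variable {A B}

/-- the number of generators chosen -/
noncomputable def Syz.rk (S : Syz A B) : ℕ := (Module.Finite.exists_fin' B S.N).choose

/-- the chosen cover -/
noncomputable def Syz.cov (S : Syz A B) : (Fin S.rk → B) →ₗ[B] S.N :=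
  (Module.Finite.exists_fin' B S.N).choose_spec.choose

theorem Syz.cov_surj (S : Syz A B) : Function.Surjective S.cov :=
  (Module.Finite.exists_fin' B S.N).choose_spec.choose_spec

variable [Algebra.FinitePresentation A B] [Module.Flat A B]

theorem Syz.flat_ker (S : Syz A B) : Module.Flat A (LinearMap.ker S.cov) := by
  have : Module.Flat A (Fin S.rk → B) := Module.Flat.trans A B (Fin S.rk → B)
  exact Groth.Agent.Divis.FlatExt.flat_of_exact_left
    (f := (LinearMap.ker S.cov).subtype.restrictScalars A)
    (g := S.cov.restrictScalars A) (Submodule.injective_subtype _)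
    (LinearMap.exact_subtype_ker_map S.cov) S.cov_surj

/-- the syzygy -/
noncomputable def Syz.next (S : Syz A B) : Syz A B :=
  have := S.flat_ker
  have := Groth.Agent.Ega43.FlatKer.kerFP A B S.N S.rk S.cov S.cov_surj
  { N := LinearMap.ker S.cov }

/-- the iterated syzygies -/
noncomputable def Syz.seq (S : Syz A B) : ℕ → Syz A B
  | 0 => S
  | n + 1 => (Syz.seq S n).next

/-- the differential -/
noncomputable def Syz.diff (S : Syz A B) (n : ℕ) :
    (Fin (S.seq (n + 1)).rk → B) →ₗ[B] (Fin (S.seq n).rk → B) :=
  (LinearMap.ker (S.seq n).cov).subtype ∘ₗ (S.seq (n + 1)).cov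

theorem Syz.exact_cov (S : Syz A B) (n : ℕ) : Function.Exact (S.diff n) (S.seq n).cov := by
  intro x
  constructor
  · intro hx
    obtain ⟨y, hy⟩ := (S.seq (n + 1)).cov_surj ⟨x, hx⟩
    refine ⟨y, ?_⟩
    exact congrArg Subtype.val hy
  · rintro ⟨y, rfl⟩
    exact ((S.seq (n + 1)).cov y : LinearMap.ker (S.seq n).cov).2

theorem Syz.exact_diff (S : Syz A B) (n : ℕ) : Function.Exact (S.diff (n + 1)) (S.diff n) := by
  intro x
  rw [← S.exact_cov (n + 1) x]
  constructor
  · intro hx
    exact Subtype.ext hx
  · intro hx
    exact congrArg Subtype.val hx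

end Syz

theorem exists_finite_free (A B M : Type u) [CommRing A] [CommRing B] [Algebra A B]
    [Algebra.FinitePresentation A B] [Module.Flat A B] [AddCommGroup M] [Module B M] [Module A M]
    [IsScalarTower A B M] [Module.FinitePresentation B M] [Module.Flat A M] :
    ∃ P : ProjectiveResolution (ModuleCat.of B M),
      ∀ n : ℕ, Module.Finite B (P.complex.X n) ∧ Module.Free B (P.complex.X n) := by
  let S : Syz A B := { N := M }
  exact exists_resolution (fun n => (S.seq n).rk) S.diff S.exact_diff M S.cov S.cov_surj
    (S.exact_cov 0)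

end K132.FreeRes
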