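import Groth.Agent.EGA43.K132.GeomRkOpen
import Groth.Agent.EGA43.K122.GeomNorFin
import Groth.Agent.Ega4C.SkField
import Groth.Agent.Ega4A.EquidimTransport
import Groth.Agent.S0601
import Groth.Agent.S2551

/-!
# Openness of the locus where the fibres are geometrically normal

* `normal_iff`: a Noetherian local ring is a normal domain iff it is (R_1) and (S_2);
* `hasSk_of_over`: (S_n) passes to the local rings of `Y ⊗ K`, `K` finite over `k`;
* `normal_finite_iff`: for `g : Y ⟶ Spec k`, all local rings above `y` of `Y ⊗ K`, `K` finite over `k`, are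
  normal domains iff the local ring at `y` is (S_2) and `g` is smooth in codimension `≤ 1` at `y`;
* `isOpen_geomNormal`: for `f` flat and locally of finite presentation, the set of points at which the fibre is
  geometrically normal is open.
-/

set_option autoImplicit false
universe u

open AlgebraicGeometry CategoryTheory CategoryTheory.Limits IsLocalRing Groth.Agent TensorProduct
open Groth.Agent.Ega4fib.H173.NormalPoint

namespace K132.GeomNormOpen

theorem normal_iff (R : Type u) [CommRing R] [IsNoetherianRing R] [IsLocalRing R] :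
    (IsDomain R ∧ IsIntegrallyClosed R) ↔ (LocCoh.HasRk 1 R ∧ LocCoh.HasSk 2 R R) := by
  rw [← Groth.Agent.S0601.result R]
  constructor
  · rintro ⟨_, _⟩ p hp
    exact ⟨inferInstance, isIntegrallyClosed_of_isLocalization (Localization.AtPrime p) p.primeCompl
      p.primeCompl_le_nonZeroDivisors⟩
  · intro h
    have hu : ∀ x : (maximalIdeal R).primeCompl, IsUnit (x : R) := fun x => by
      by_contra hn
      exact x.2 ((mem_maximalIdeal _).mpr hn)
    have e : R ≃+* Localization.AtPrime (maximalIdeal R) :=
      (IsLocalization.atUnits R (maximalIdeal R).primeCompl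
        (S := Localization.AtPrime (maximalIdeal R)) (fun x hx => hu ⟨x, hx⟩)).toRingEquiv
    exact isoClosed_PNor _ _ e.symm (h (maximalIdeal R))

/-- (S_n) passes to the localizations of `A ⊗ K` above a prime `p`. -/
theorem hasSk_localization_tensor (k A K : Type u) [Field k] [CommRing A] [Algebra k A]
    [IsNoetherianRing A] [Field K] [Algebra k K] [Module.Finite k K] (n : ℕ) (p : Ideal A) [p.IsPrime]
    (h : LocCoh.HasSk n (Localization.AtPrime p) (Localization.AtPrime p))
    (Q : Ideal (A ⊗[k] K)) [Q.IsPrime] (hQ : Q.comap (algebraMap A (A ⊗[k] K)) = p) :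
    LocCoh.HasSk n (Localization.AtPrime Q) (Localization.AtPrime Q) := by
  have : IsNoetherianRing (Localization.AtPrime p ⊗[k] K) := by
    have : Algebra.FiniteType (Localization.AtPrime p) (Localization.AtPrime p ⊗[k] K) := inferInstance
    exact Algebra.FiniteType.isNoetherianRing (Localization.AtPrime p) _
  have h3 := Ega4C.SkField.hasSk_tensor_field k (Localization.AtPrime p) K (Or.inr inferInstance) n h
  let _ : Algebra (A ⊗[k] K) (Localization.AtPrime p ⊗[k] K) :=
    (Algebra.TensorProduct.map (IsScalarTower.toAlgHom k A (Localization.AtPrime p))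
      (AlgHom.id k K)).toRingHom.toAlgebra
  have hloc : IsLocalization (Algebra.algebraMapSubmonoid (A ⊗[k] K) p.primeCompl)
      (Localization.AtPrime p ⊗[k] K) :=
    Groth.Agent.LoccohB.GorFibre3.isLocalization_tensor K p.primeCompl
  have hdisj : Disjoint (Algebra.algebraMapSubmonoid (A ⊗[k] K) p.primeCompl : Set (A ⊗[k] K))
      (Q : Set (A ⊗[k] K)) := by
    rw [Set.disjoint_left]
    rintro _ ⟨r, hr, rfl⟩ h4
    apply hr
    rw [← hQ]
    exact h4
  let N : Ideal (Localization.AtPrime p ⊗[k] K) :=
    Q.map (algebraMap (A ⊗[k] K) (Localization.AtPrime p ⊗[k] K))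
  have hN : N.IsPrime := IsLocalization.isPrime_of_isPrime_disjoint
    (Algebra.algebraMapSubmonoid (A ⊗[k] K) p.primeCompl) _ Q inferInstance hdisj
  have hcomap : N.comap (algebraMap (A ⊗[k] K) (Localization.AtPrime p ⊗[k] K)) = Q :=
    IsLocalization.under_map_of_isPrime_disjoint
      (Algebra.algebraMapSubmonoid (A ⊗[k] K) p.primeCompl) _ inferInstance hdisj
  have h5 : IsLocalization.AtPrime (Localization.AtPrime N)
      (N.comap (algebraMap (A ⊗[k] K) (Localization.AtPrime p ⊗[k] K))) :=
    IsLocalization.isLocalization_isLocalization_atPrime_isLocalization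
      (Algebra.algebraMapSubmonoid (A ⊗[k] K) p.primeCompl) (Localization.AtPrime N) N
  have h6 : IsLocalization.AtPrime (Localization.AtPrime N) Q := by
    have h7 : ∀ (I : Ideal (A ⊗[k] K)) [I.IsPrime] (_ : I = Q),
        IsLocalization.AtPrime (Localization.AtPrime N) I →
        IsLocalization.AtPrime (Localization.AtPrime N) Q := by
      intro I _ hI h8
      subst hI
      exact h8
    exact h7 _ hcomap h5
  let e : Localization.AtPrime Q ≃ₐ[A ⊗[k] K] Localization.AtPrime N :=
    IsLocalization.algEquiv Q.primeCompl _ _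
  exact Ega4C.SkField.hasSk_of_ringEquiv n e.toRingEquiv.symm
    (CalgA.SerreLocal.hasSk_localization h3 N)

/-- (S_n) passes to the local rings of `Y ⊗ K`, `K` finite over `k`. -/
theorem hasSk_of_over {k : Type u} [Field k] {Y : Scheme.{u}}
    (g : Y ⟶ Spec (CommRingCat.of k)) [LocallyOfFiniteType g] (n : ℕ) (y : Y)
    (h : LocCoh.HasSk n (Y.presheaf.stalk y) (Y.presheaf.stalk y))
    (K : Type u) [Field K] [Algebra k K] [Module.Finite k K]
    (x' : ↥(FBase.bc g K)) (hx' : (FBase.bcπ g K).base x' = y) :
    LocCoh.HasSk n ((FBase.bc g K).presheaf.stalk x') ((FBase.bc g K).presheaf.stalk x') := by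
  let iO : Y.Over (Spec (CommRingCat.of k)) := ⟨g⟩
  obtain ⟨A, _, _, i, _, p, hi, rfl⟩ := VarietyB.BcChart.exists_chart k Y y
  have hLN : IsLocallyNoetherian Y := LocallyOfFiniteType.isLocallyNoetherian g
  have : IsLocallyNoetherian (Spec (CommRingCat.of A)) := isLocallyNoetherian_of_isOpenImmersion i
  have : IsNoetherianRing A := isLocallyNoetherian_Spec.mp this
  have hp : p.asIdeal.IsPrime := PrimeSpectrum.isPrime p
  have h1 : LocCoh.HasSk n (Localization.AtPrime p.asIdeal) (Localization.AtPrime p.asIdeal) :=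
    Ega4C.SkField.hasSk_of_ringEquiv n (VarietyB.BcChart.stalkEquiv i p) h
  exact (VarietyB.GeomRedAt.forall_stalk_iff k Y i hi K p (fun R _ => LocCoh.HasSk n R R)
      (fun R S _ _ e hR => Ega4C.SkField.hasSk_of_ringEquiv n e hR)).mpr
        (fun q _ hq => hasSk_localization_tensor k A K n p.asIdeal h1 q hq) x' hx'

/-- The local rings of `Y ⊗ k`. -/
theorem of_trivial {k : Type u} [Field k] {Y : Scheme.{u}} (g : Y ⟶ Spec (CommRingCat.of k)) (y : Y)
    (P : ∀ (R : Type u) [CommRing R], Prop)
    (hP : ∀ (R S : Type u) [CommRing R] [CommRing S] (_ : R ≃+* S), P R → P S)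
    (h : ∀ x' : ↥(FBase.bc g k), (FBase.bcπ g k).base x' = y → P ((FBase.bc g k).presheaf.stalk x')) :
    P (Y.presheaf.stalk y) := by
  have : IsIso (Spec.map (CommRingCat.ofHom (algebraMap k k))) := by
    have h1 : Spec.map (CommRingCat.ofHom (algebraMap k k)) = 𝟙 _ := by
      rw [← Spec.map_id]
      rfl
    rw [h1]
    infer_instance
  have : IsIso (FBase.bcπ g k) :=
    inferInstanceAs (IsIso (pullback.fst g (Spec.map (CommRingCat.ofHom (algebraMap k k)))))
  obtain ⟨x', rfl⟩ := (FBase.bcπ g k).surjective y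
  exact hP _ _ (asIso ((FBase.bcπ g k).stalkMap x')).commRingCatIsoToRingEquiv.symm (h x' rfl)

theorem isNoetherianRing_stalk {k : Type u} [Field k] {Y : Scheme.{u}}
    (g : Y ⟶ Spec (CommRingCat.of k)) [LocallyOfFiniteType g] (K : Type u) [Field K] [Algebra k K]
    (x' : ↥(FBase.bc g K)) : IsNoetherianRing ((FBase.bc g K).presheaf.stalk x') := by
  have h1 : LocallyOfFiniteType (pullback.snd g (Spec.map (CommRingCat.ofHom (algebraMap k K)))) :=
    inferInstance
  have h2 : IsLocallyNoetherian (pullback g (Spec.map (CommRingCat.ofHom (algebraMap k K)))) :=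
    LocallyOfFiniteType.isLocallyNoetherian
      (pullback.snd g (Spec.map (CommRingCat.ofHom (algebraMap k K))))
  have h3 : IsLocallyNoetherian (FBase.bc g K) := h2
  infer_instance

/-- Geometric normality at a point, tested on finite extensions. -/
theorem normal_finite_iff {k : Type u} [Field k] {Y : Scheme.{u}}
    (g : Y ⟶ Spec (CommRingCat.of k)) [LocallyOfFinitePresentation g] (y : Y) :
    (∀ (K : Type u) [Field K] [Algebra k K], Module.Finite k K →
      ∀ x' : ↥(FBase.bc g K), (FBase.bcπ g K).base x' = y →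
      IsDomain ((FBase.bc g K).presheaf.stalk x') ∧
        IsIntegrallyClosed ((FBase.bc g K).presheaf.stalk x')) ↔
    LocCoh.HasSk 2 (Y.presheaf.stalk y) (Y.presheaf.stalk y) ∧
      ∀ z : Y, z ⤳ y → Order.coheight z ≤ (1 : ℕ) → z ∈ g.smoothLocus := by
  have hLN : IsLocallyNoetherian Y := LocallyOfFiniteType.isLocallyNoetherian g
  have hN : ∀ (K : Type u) [Field K] [Algebra k K] (x' : ↥(FBase.bc g K)),
      IsNoetherianRing ((FBase.bc g K).presheaf.stalk x') := fun K _ _ x' =>
    isNoetherianRing_stalk g K x'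
  rw [← GeomRkFin.geomRk_iff_finite g 1 y]
  constructor
  · intro h
    refine ⟨?_, fun K _ _ hK x' hx' => ?_⟩
    · have h1 := of_trivial g y (fun R _ => PNor R) isoClosed_PNor
        (h k inferInstance)
      exact ((normal_iff _).mp h1).2
    · have := hN K x'
      exact ((normal_iff _).mp (h K hK x' hx')).1
  · rintro ⟨h1, h2⟩ K _ _ hK x' hx'
    have := hN K x'
    exact (normal_iff _).mpr ⟨h2 K hK x' hx', hasSk_of_over g 2 y h1 K x' hx'⟩

variable {X Y : Scheme.{u}} (f : X ⟶ Y)

/-- Geometric normality of the fibre at a point (finite extensions). -/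
def NorFin (x : X) : Prop :=
  ∀ (K : Type u) [Field K] [Algebra (Y.residueField (f x)) K],
        Module.Finite (Y.residueField (f x)) K →
        ∀ x' : ↥(FBase.bc (k := Y.residueField (f x)) (f.fiberToSpecResidueField (f x)) K),
          (FBase.bcπ (k := Y.residueField (f x)) (f.fiberToSpecResidueField (f x)) K).base x' =
              f.asFiber x →
          IsDomain ((FBase.bc (k := Y.residueField (f x))
            (f.fiberToSpecResidueField (f x)) K).presheaf.stalk x') ∧
          IsIntegrallyClosed ((FBase.bc (k := Y.residueField (f x))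
            (f.fiberToSpecResidueField (f x)) K).presheaf.stalk x')

theorem norFin_iff [LocallyOfFinitePresentation f] (x : X) :
    NorFin f x ↔
      LocCoh.HasSk 2 ((f.fiber (f x)).presheaf.stalk (f.asFiber x))
        ((f.fiber (f x)).presheaf.stalk (f.asFiber x)) ∧ GeomRkOpen.SmoothCodim f 1 x :=
  normal_finite_iff (k := Y.residueField (f x)) (f.fiberToSpecResidueField (f x)) (f.asFiber x)

theorem exists_mem_E_of_norFin [LocallyOfFinitePresentation f] (x : X) (h : NorFin f x) :
    ∃ n : ℕ, x ∈ GeomRkOpen.E f n := by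
  have h1 : PNor ((f.fiber (f x)).presheaf.stalk (f.asFiber x)) :=
    of_trivial (k := Y.residueField (f x)) (f.fiberToSpecResidueField (f x)) (f.asFiber x)
      (fun R _ => PNor R) isoClosed_PNor (h (Y.residueField (f x)) inferInstance)
  have h2 := h1.1
  refine (GeomRkOpen.exists_mem_E_iff f x).mp ⟨Ega4A.EquidimTransport.isEquidim_of_isDomain _, ?_⟩
  intro p hp
  have hb : p = ⊥ := by
    obtain ⟨hp, m, hm⟩ := hp
    rw [eq_bot_iff]
    intro r hr
    have hm0 : m ≠ 0 := by
      rintro rfl
      apply hp.ne_top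
      rw [hm, Ideal.eq_top_iff_one, Ideal.mem_radical_iff]
      exact ⟨1, by rw [Submodule.mem_colon_singleton]; simp⟩
    rw [hm, Ideal.mem_radical_iff] at hr
    obtain ⟨t, ht⟩ := hr
    rw [Submodule.mem_colon_singleton, smul_eq_mul, Submodule.mem_bot] at ht
    exact eq_zero_of_pow_eq_zero ((mul_eq_zero.mp ht).resolve_right hm0)
  rw [hb, IsDomain.minimalPrimes_eq_singleton_bot]
  rfl

theorem isOpen_norFin [Flat f] [LocallyOfFinitePresentation f] : IsOpen {x : X | NorFin f x} := by
  have h : {x : X | NorFin f x} =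
      {x : X | LocCoh.HasSk 2 ((f.fiber (f x)).presheaf.stalk (f.asFiber x))
        ((f.fiber (f x)).presheaf.stalk (f.asFiber x))} ∩
      {x : X | GeomRkOpen.SmoothCodim f 1 x ∧ ∃ n : ℕ, x ∈ GeomRkOpen.E f n} := by
    ext x
    constructor
    · intro hx
      obtain ⟨h1, h2⟩ := (norFin_iff f x).mp hx
      exact ⟨h1, h2, exists_mem_E_of_norFin f x hx⟩
    · rintro ⟨h1, h2, -⟩
      exact (norFin_iff f x).mpr ⟨h1, h2⟩
  rw [h]
  exact (Groth.Agent.S2551.result f 2).inter (GeomRkOpen.isOpen_smooth_codim f 1)

end K132.GeomNormOpen
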