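import Groth.Agent.Ega4B.RegSep
import Groth.Agent.Fdesc.GeomRedAt
import Groth.Agent.VarietyB.PurelyInsep
import Groth.Agent.CalgA.RegLoc

/-!
# Regularity above a prime: finite extensions of the base field suffice

`isRegularLocalRing_of_finite`: `A` a Noetherian algebra over a field `k`, `p` a prime of `A`. If the local
rings of `A ⊗ k'` at the primes over `p` are regular for all finite extensions `k'` of `k`, then the same
holds for all finitely generated extensions of `k`.
-/

set_option autoImplicit false
universe u

open TensorProduct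

namespace K132.GeomRegFin

open Groth.Agent

/-- Regularity passes to smaller primes. -/
theorem regular_of_le {E : Type u} [CommRing E] (P m : Ideal E) [P.IsPrime] [m.IsPrime]
    (h : P ≤ m) (h' : IsRegularLocalRing (Localization.AtPrime m)) :
    IsRegularLocalRing (Localization.AtPrime P) := by
  have hd : Disjoint (m.primeCompl : Set E) (P : Set E) := by
    rw [Set.disjoint_left]
    intro x hx hxP
    exact hx (h hxP)
  obtain ⟨P', _, -, ⟨e⟩⟩ := Fdesc.GeomRedAt.exists_prime_of_disjoint m.primeCompl
    (Localization.AtPrime m) P hd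
  have := CalgA.RegLoc.isRegularLocalRing_localization (Localization.AtPrime m) P'
  exact IsRegularLocalRing.of_ringEquiv e.symm

theorem isRegularRing_of_isRegularLocalRing {E : Type u} [CommRing E] (h : IsRegularLocalRing E) :
    IsRegularRing E :=
  isRegularRing_iff.mpr fun p _ => CalgA.RegLoc.isRegularLocalRing_localization E p

variable (k : Type u) [Field k] {A : Type u} [CommRing A] [IsNoetherianRing A] [Algebra k A]

theorem isRegularRing_tensor_atPrime (K : Type u) [Field K] [Algebra k K] [Module.Finite k K]
    (p : Ideal A) [p.IsPrime]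
    (h : ∀ (q : Ideal (A ⊗[k] K)) [q.IsPrime], q.comap (algebraMap A (A ⊗[k] K)) = p →
      IsRegularLocalRing (Localization.AtPrime q)) :
    IsRegularRing (Localization.AtPrime p ⊗[k] K) := by
  let _ := (VarietyB.PurelyInsep.tensorLoc k K p).toAlgebra
  have hloc := VarietyB.PurelyInsep.isLocalization_tensorLoc k K p
  have hst : IsScalarTower A (A ⊗[k] K) (Localization.AtPrime p ⊗[k] K) := by
    refine .of_algebraMap_eq fun a ↦ ?_
    simp [RingHom.algebraMap_toAlgebra, VarietyB.PurelyInsep.tensorLoc]
  have hN : IsNoetherianRing (Localization.AtPrime p ⊗[k] K) :=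
    Algebra.EssFiniteType.isNoetherianRing (Localization.AtPrime p) _
  refine isRegularRing_iff.mpr fun P _ => ?_
  obtain ⟨m, hm, hPm⟩ := Ideal.exists_le_maximal P (Ideal.IsPrime.ne_top ‹_›)
  refine regular_of_le P m hPm ?_
  let q : Ideal (A ⊗[k] K) := m.comap (algebraMap (A ⊗[k] K) (Localization.AtPrime p ⊗[k] K))
  have hq : q.comap (algebraMap A (A ⊗[k] K)) = p := by
    have : Algebra.IsIntegral (Localization.AtPrime p) (Localization.AtPrime p ⊗[k] K) :=
      inferInstance
    have hmax := Ideal.isMaximal_comap_of_isIntegral_of_isMaximal (R := Localization.AtPrime p) m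
    have h2 := IsLocalRing.eq_maximalIdeal hmax
    rw [Ideal.comap_comap, ← IsScalarTower.algebraMap_eq,
      IsScalarTower.algebraMap_eq A (Localization.AtPrime p), ← Ideal.comap_comap, h2]
    exact IsLocalization.AtPrime.under_maximalIdeal _ p
  have h3 := h q hq
  have h4 : IsLocalization.AtPrime (Localization.AtPrime m) q :=
    IsLocalization.isLocalization_isLocalization_atPrime_isLocalization
      (Algebra.algebraMapSubmonoid (A ⊗[k] K) p.primeCompl) (Localization.AtPrime m) m
  exact IsRegularLocalRing.of_ringEquiv (IsLocalization.algEquiv q.primeCompl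
    (Localization.AtPrime q) (Localization.AtPrime m)).toRingEquiv

theorem isRegularLocalRing_of_finite (p : Ideal A) [p.IsPrime]
    (h : ∀ (K : Type u) [Field K] [Algebra k K], Module.Finite k K →
      ∀ (q : Ideal (A ⊗[k] K)) [q.IsPrime], q.comap (algebraMap A (A ⊗[k] K)) = p →
      IsRegularLocalRing (Localization.AtPrime q))
    (K : Type u) [Field K] [Algebra k K] [Algebra.EssFiniteType k K]
    (q : Ideal (A ⊗[k] K)) [q.IsPrime] (hq : q.comap (algebraMap A (A ⊗[k] K)) = p) :
    IsRegularLocalRing (Localization.AtPrime q) := by
  have h1 : IsRegularRing (K ⊗[k] Localization.AtPrime p) := by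
    refine Ega4B.RegSep.isRegularRing_tensor_of_purelyInseparable k (Localization.AtPrime p)
      (fun k' _ _ hf _ => ?_) K
    have := isRegularRing_tensor_atPrime k k' p (h k' hf)
    exact .of_ringEquiv (Algebra.TensorProduct.comm k (Localization.AtPrime p) k').toRingEquiv
  have h2 : IsRegularRing (Localization.AtPrime p ⊗[k] K) :=
    .of_ringEquiv (Algebra.TensorProduct.comm k K (Localization.AtPrime p)).toRingEquiv
  have hN : IsNoetherianRing (A ⊗[k] K) := Algebra.EssFiniteType.isNoetherianRing A _
  have h3 : IsRegularRing (Localization.AtPrime q) :=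
    Fdesc.GeomRedAt.localRing_of_localization_tensor (P := fun B _ => IsRegularRing B)
      (fun B B' _ _ e hB => .of_ringEquiv e) (fun B _ m _ hB => isRegularRing_of_isRegularLocalRing
        (hB.isRegularLocalRing_localization m)) K p h2 q hq
  exact IsRegularLocalRing.of_isRegularRing_of_isLocalRing _

end K132.GeomRegFin
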