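import Groth.Agent.EGA43.K132.GeomRegFin
import Groth.Agent.Ega4fib.H172.GeomRk
import Groth.Agent.VarietyB.GeomRedAt
import Groth.Agent.S1562

/-!
# The geometric condition (R_n) at a point, tested on finite extensions of the base field

`geomRk_iff_finite`: for `g : Y ⟶ Spec k` locally of finite presentation, all local rings at points above `y`
of the base changes `Y ⊗ K`, `K` *finite* over `k`, satisfy (R_n) if and only if every generization `z` of
`y` with `coheight z ≤ n` is a smooth point of `g`.
-/

set_option autoImplicit false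

universe u

open AlgebraicGeometry CategoryTheory CategoryTheory.Limits Groth.Agent

namespace K132.GeomRkFin

/-- If the local rings above `z` of all `Y ⊗ K`, `K` finite over `k`, are regular, then `z` is a smooth point. -/
theorem mem_smoothLocus_of_finite {k : Type u} [Field k] {Y : Scheme.{u}}
    (g : Y ⟶ Spec (CommRingCat.of k)) [LocallyOfFinitePresentation g] (z : Y)
    (h : ∀ (K : Type u) [Field K] [Algebra k K], Module.Finite k K →
      ∀ z' : ↥(FBase.bc g K), (FBase.bcπ g K).base z' = z →
        IsRegularLocalRing ((FBase.bc g K).presheaf.stalk z')) : z ∈ g.smoothLocus := by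
  let iO : Y.Over (Spec (CommRingCat.of k)) := ⟨g⟩
  have hfp : LocallyOfFinitePresentation (Y ↘ Spec (CommRingCat.of k)) :=
    inferInstanceAs (LocallyOfFinitePresentation g)
  refine (S1562.result k Y z).mp ?_
  intro K _ _ hK
  obtain ⟨A, _, _, i, _, p, hi, rfl⟩ := VarietyB.BcChart.exists_chart k Y z
  have hLN : IsLocallyNoetherian Y := LocallyOfFiniteType.isLocallyNoetherian g
  have : IsLocallyNoetherian (Spec (CommRingCat.of A)) := isLocallyNoetherian_of_isOpenImmersion i
  have : IsNoetherianRing A := isLocallyNoetherian_Spec.mp this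
  have : Algebra.EssFiniteType k K := IntermediateField.fg_top_iff.mp hK
  refine (VarietyB.GeomRedAt.forall_stalk_iff k Y i hi K p (fun R _ => IsRegularLocalRing R)
      (fun R S _ _ e hR => IsRegularLocalRing.of_ringEquiv e)).mpr (fun q _ hq => ?_)
  refine GeomRegFin.isRegularLocalRing_of_finite k p.asIdeal (fun K' _ _ hf => ?_) K q hq
  exact (VarietyB.GeomRedAt.forall_stalk_iff k Y i hi K' p (fun R _ => IsRegularLocalRing R)
      (fun R S _ _ e hR => IsRegularLocalRing.of_ringEquiv e)).mp (fun y hy => h K' hf y hy)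

theorem geomRk_iff_finite {k : Type u} [Field k] {Y : Scheme.{u}}
    (g : Y ⟶ Spec (CommRingCat.of k)) [LocallyOfFinitePresentation g] (n : ℕ) (y : Y) :
    (∀ (K : Type u) [Field K] [Algebra k K], Module.Finite k K →
      ∀ x' : ↥(FBase.bc g K), (FBase.bcπ g K).base x' = y →
      LocCoh.HasRk n ((FBase.bc g K).presheaf.stalk x')) ↔
    ∀ z : Y, z ⤳ y → Order.coheight z ≤ n → z ∈ g.smoothLocus := by
  have hLN : IsLocallyNoetherian Y := LocallyOfFiniteType.isLocallyNoetherian g
  constructor
  · intro h z hz hn
    refine mem_smoothLocus_of_finite g z fun K _ _ hf z' hz' => ?_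
    subst hz'
    have hint := Ega4fib.H172.GeomRk.isIntegralHom_bcπ g K
    obtain ⟨x', hx', hx'y⟩ : ∃ x' : ↥(FBase.bc g K), z' ⤳ x' ∧ FBase.bcπ g K x' = y := by
      have hcl : IsClosedMap (FBase.bcπ g K) := (FBase.bcπ g K).isClosedMap
      have h1 := hcl.closure_image_eq_of_continuous (FBase.bcπ g K).continuous {z'}
      rw [Set.image_singleton] at h1
      have h2 : y ∈ closure {FBase.bcπ g K z'} := specializes_iff_mem_closure.mp hz
      rw [h1] at h2
      obtain ⟨x', hx', hx'y⟩ := h2
      exact ⟨x', specializes_iff_mem_closure.mpr hx', hx'y⟩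
    exact (Ega4fib.H172.GeomRk.hasRk_stalk_iff _ x' n).mp (h K hf x' hx'y) z' hx' (by
      rw [Grpsch.FieldDim.coheight_eq_of_flat_isIntegralHom (FBase.bcπ g K) z']
      exact hn)
  · intro h K _ _ hf
    exact (Ega4fib.H172.GeomRk.geomRk_iff g n y).mpr h K

end K132.GeomRkFin
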