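import Groth.Agent.EGA43.K132.EquidimAss
import Groth.Agent.EGA43.K132.GeomRkFin
import Groth.Agent.EGA43.K128.FibDim
import Groth.Agent.FlatMor.K256.DimClosed
import Groth.Agent.Smoothlim.FPMod
import Groth.Agent.S3454

/-!
# Openness of the locus where the fibres are geometrically (R_k), equidimensional, without embedded primes

Let `f` be flat and locally of finite presentation.

* `E f n`: the points `x` such that all associated points of the fibre through `x` specializing to `x` are of
  dimension `n`; `isOpen_E`, `exists_mem_E_iff`: `x ∈ E f n` for some `n` iff the local ring of the fibre at `x`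
  is equidimensional without embedded primes.
* `isOpen_smooth_codim`: the points `x` of some `E f n` such that the fibre is smooth in codimension `≤ k` at
  `x` form an open set.
-/

set_option autoImplicit false
universe u

open AlgebraicGeometry CategoryTheory CategoryTheory.Limits IsLocalRing Groth.Agent
open Groth.Agent.CycB Groth.Agent.CycB.RelDim K128.FibDim

namespace K132.GeomRkOpen

variable {X Y : Scheme.{u}} (f : X ⟶ Y)

/-- The points `x` such that all associated points of the fibre through `x` which specialize to `x` have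
dimension `n`. -/
def E (n : ℕ) : Set X :=
  {x | ∀ z : X, z ⤳ x → f z = f x → z ∈ MoreMor.relAss f (Coh.structureModule X) → rtd f z = n}

theorem isOpen_E [Flat f] [LocallyOfFinitePresentation f] (n : ℕ) : IsOpen (E f n) := by
  have h := K128.FibAssSch.isOpen_forall_mem f (Coh.structureModule X)
    Smoothlim.FPMod.isFP_unit (K109.FibAss.isFlatOver_structureModule f) {n}
  convert h using 1
  ext x
  simp only [E, Set.mem_ofPred_eq, Set.mem_singleton_iff, exists_eq_left]

theorem mem_ass_fiber_iff (s : Y) (z : f.fiber s) :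
    z ∈ AssSch.Ass (Coh.structureModule (f.fiber s)) ↔
      f.fiberι s z ∈ MoreMor.relAss f (Coh.structureModule X) := by
  rw [← K128.FibAssSch.mem_ass_fiber_iff f (Coh.structureModule X) s z,
    K109.FibAss.mem_ass_pullback_structure_iff]

instance lft_fiber [LocallyOfFiniteType f] (s : Y) :
    LocallyOfFiniteType (f.fiberToSpecResidueField s) :=
  inferInstanceAs (LocallyOfFiniteType (pullback.snd f (Y.fromSpecResidueField s)))

theorem exists_mem_E_iff [LocallyOfFiniteType f] (x : X) :
    (EGA4.IsEquidim ((f.fiber (f x)).presheaf.stalk (f.asFiber x)) ∧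
      ∀ p ∈ associatedPrimes ((f.fiber (f x)).presheaf.stalk (f.asFiber x))
        ((f.fiber (f x)).presheaf.stalk (f.asFiber x)),
        p ∈ minimalPrimes ((f.fiber (f x)).presheaf.stalk (f.asFiber x))) ↔ ∃ n : ℕ, x ∈ E f n := by
  refine (EquidimAss.isEquidim_and_stalk_iff (k := Y.residueField (f x))
    (f.fiberToSpecResidueField (f x)) (f.asFiber x)).trans ?_
  refine exists_congr fun n => ?_
  constructor
  · intro h z hz hfz hass
    obtain ⟨w, rfl⟩ := exists_fiberι_eq f (f x) z hfz
    rw [← rtd_fiberToSpecResidueField]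
    refine h w ?_ ((mem_ass_fiber_iff f _ w).mpr hass)
    rw [specializes_iff, f.fiberι_asFiber]
    exact hz
  · intro h w hw hass
    have h1 := rtd_fiberToSpecResidueField f (f x) w
    refine h1.trans (h _ ?_ (fiberι_base f _ w) ((mem_ass_fiber_iff f _ w).mp hass))
    rw [specializes_iff, f.fiberι_asFiber] at hw
    exact hw

/-- Generic points of fibres are relative associated points. -/
theorem mem_relAss_of_fibGeneric [LocallyOfFiniteType f] {z : X} (hz : FibGeneric f z) :
    z ∈ MoreMor.relAss f (Coh.structureModule X) := by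
  have hLN : IsLocallyNoetherian (f.fiber (f z)) :=
    LocallyOfFiniteType.isLocallyNoetherian (Y := Spec (CommRingCat.of (Y.residueField (f z))))
      (f.fiberToSpecResidueField (f z))
  obtain ⟨w, hw, hwz⟩ := K109.Local.exists_mem_ass (Coh.structureModule (f.fiber (f z)))
    (Fdesc.StructMod.isQCoh_structureModule _) (x := f.asFiber z)
    (Fdesc.StructMod.stalkEquiv (f.asFiber z)).symm.toEquiv.nontrivial
  rw [specializes_iff, f.fiberι_asFiber] at hwz
  have h1 := hz _ (fiberι_base f _ w) hwz
  rw [← h1]
  exact (mem_ass_fiber_iff f _ w).mp hw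

theorem fibreDimAt_eq_of_mem_E [LocallyOfFiniteType f] {n : ℕ} {x z : X} (hx : x ∈ E f n)
    (hz : z ⤳ x) (hf : f z = f x) : FlatMor.fibreDimAt f z = n := by
  obtain ⟨w, hw, hfw, hg, m, hm, hm'⟩ := Ega4fib.H172.FibDimBC.exists_fibGeneric_rtd_eq f z
  have h1 := hx w (hw.trans hz) (hfw.trans hf) (mem_relAss_of_fibGeneric f hg)
  rw [hm] at h1
  rw [hm']
  have h2 : m = n := by exact_mod_cast h1
  rw [h2]

theorem coheight_le_iff_of_mem_E [LocallyOfFinitePresentation f] {n : ℕ} {x z : X} (hx : x ∈ E f n)
    (hz : z ⤳ x) (hf : f z = f x) (k : ℕ) :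
    Order.coheight (f.asFiber z) ≤ k ↔ ((n - k : ℕ) : Cardinal.{u}) ≤ rtd f z := by
  rw [S3454.coheight_asFiber_le_iff]
  constructor
  · rintro ⟨m, hm, h⟩
    rw [fibreDimAt_eq_of_mem_E f hx hz hf] at h
    have h1 : n ≤ k + m := by exact_mod_cast h
    rw [hm]
    have h2 : n - k ≤ m := by omega
    exact_mod_cast h2
  · intro h
    obtain ⟨m, hm⟩ := Cardinal.lt_aleph0.mp (rtd_lt_aleph0 f z)
    rw [hm] at h
    have h2 : n - k ≤ m := by exact_mod_cast h
    refine ⟨m, hm, ?_⟩
    rw [fibreDimAt_eq_of_mem_E f hx hz hf]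
    have h1 : n ≤ k + m := by omega
    exact_mod_cast h1

theorem mem_smoothLocus_fiber_iff [Flat f] [LocallyOfFinitePresentation f] (s : Y) (z : f.fiber s) :
    z ∈ (f.fiberToSpecResidueField s).smoothLocus ↔ f.fiberι s z ∈ f.smoothLocus :=
  Smoothlim.SmoothLocusBC.mem_smoothLocus_iff_of_isPullback
    (IsPullback.of_hasPullback f (Y.fromSpecResidueField s)) z (Or.inl (Flat.stalkMap f _))

/-- The fibre through `x` is smooth in codimension `≤ k` at `x`. -/
def SmoothCodim [LocallyOfFinitePresentation f] (k : ℕ) (x : X) : Prop :=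
  ∀ z : f.fiber (f x), z ⤳ f.asFiber x → Order.coheight z ≤ k →
    z ∈ (f.fiberToSpecResidueField (f x)).smoothLocus

theorem smoothCodim_iff_of_mem_E [Flat f] [LocallyOfFinitePresentation f] {n : ℕ} {x : X}
    (hx : x ∈ E f n) (k : ℕ) : SmoothCodim f k x ↔
      x ∉ K256.DimClosed.BSet f (f.smoothLocus : Set X)ᶜ (n - k) := by
  constructor
  · rintro h ⟨z, hz, hzx, hfz, hd⟩
    obtain ⟨w, rfl⟩ := exists_fiberι_eq f (f x) z hfz
    apply hz
    rw [SetLike.mem_coe, ← mem_smoothLocus_fiber_iff]
    refine h w ?_ ?_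
    · rw [specializes_iff, f.fiberι_asFiber]
      exact hzx
    · have h1 := (coheight_le_iff_of_mem_E f hx hzx hfz k).mpr hd
      obtain ⟨y, hy, hfy, hP⟩ := S3454.exists_asFiber f (f x) w
      rw [hP (fun t p => Order.coheight p ≤ k)]
      subst hy
      exact h1
  · intro h w hw hk
    rw [mem_smoothLocus_fiber_iff]
    by_contra hns
    obtain ⟨y, hy, hfy, hP⟩ := S3454.exists_asFiber f (f x) w
    rw [specializes_iff, f.fiberι_asFiber] at hw
    refine h ⟨f.fiberι (f x) w, hns, hw, fiberι_base f _ w, ?_⟩
    refine (coheight_le_iff_of_mem_E f hx hw (fiberι_base f _ w) k).mp ?_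
    subst hy
    exact (hP (fun t p => Order.coheight p ≤ k)).mp hk

theorem isOpen_smooth_codim [Flat f] [LocallyOfFinitePresentation f] (k : ℕ) :
    IsOpen {x : X | SmoothCodim f k x ∧ ∃ n : ℕ, x ∈ E f n} := by
  have h : {x : X | SmoothCodim f k x ∧ ∃ n : ℕ, x ∈ E f n} =
      ⋃ n : ℕ, E f n ∩ (K256.DimClosed.BSet f (f.smoothLocus : Set X)ᶜ (n - k))ᶜ := by
    ext x
    rw [Set.mem_iUnion]
    constructor
    · rintro ⟨h1, n, hn⟩
      exact ⟨n, hn, (smoothCodim_iff_of_mem_E f hn k).mp h1⟩
    · rintro ⟨n, hn, h1⟩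
      exact ⟨(smoothCodim_iff_of_mem_E f hn k).mpr h1, n, hn⟩
  rw [h]
  refine isOpen_iUnion fun n => (isOpen_E f n).inter ?_
  exact (K256.DimClosed.isClosed_BSet f _ f.smoothLocus.isOpen.isClosed_compl _).isOpen_compl

/-- The condition of the statement: (R_k) after all finite extensions of the residue field. -/
theorem finite_iff_smoothCodim [LocallyOfFinitePresentation f] (k : ℕ) (x : X) :
    (∀ (K : Type u) [Field K] [Algebra (Y.residueField (f x)) K],
        Module.Finite (Y.residueField (f x)) K →
        ∀ x' : ↥(FBase.bc (k := Y.residueField (f x)) (f.fiberToSpecResidueField (f x)) K),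
          (FBase.bcπ (k := Y.residueField (f x)) (f.fiberToSpecResidueField (f x)) K).base x' =
              f.asFiber x →
          LocCoh.HasRk k ((FBase.bc (k := Y.residueField (f x))
            (f.fiberToSpecResidueField (f x)) K).presheaf.stalk x')) ↔ SmoothCodim f k x :=
  GeomRkFin.geomRk_iff_finite (k := Y.residueField (f x)) (f.fiberToSpecResidueField (f x)) k
    (f.asFiber x)

end K132.GeomRkOpen
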