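import Groth.Agent.FlatMod.K582.GenFlatAlong
import Groth.Agent.Divis.FlatExt
import Mathlib.RingTheory.Ideal.Quotient.Noetherian

/-!
# Generic flatness of all quotients `M / J^n M`, and of the graded pieces after a base change

* `exists_flat_quotients`: `R` a Noetherian domain, `B` an `R`-algebra of finite type, `J` an ideal of `B`, `M` a
  finite `B`-module: there is `f ≠ 0` in `R` such that all `(M / J^n M)_f` are flat over `R`.
* `exists_flat_tensor_quotients`: the same after the base change to `A₀ ⧸ p`.
* `flat_gradedPiece`: the graded pieces of the image filtration are flat if the `A' ⊗ (M₀ / J₀^n M₀)` are.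
-/

set_option autoImplicit false
universe u

open TensorProduct

namespace K132.GrStrat

open K582.GenFlatAlong Groth.Agent

section Domain

variable {R B : Type u} [CommRing R] [CommRing B] [Algebra R B] (J : Ideal B)
  (M : Type u) [AddCommGroup M] [Module B M] [Module R M] [IsScalarTower R B M]

theorem smul_top_le_comap (n : ℕ) : (J • (⊤ : Submodule B ↥(J ^ n • (⊤ : Submodule B M)))) =
    Submodule.comap (J ^ n • (⊤ : Submodule B M)).subtype (J ^ (n + 1) • (⊤ : Submodule B M)) := by
  have h1 : Submodule.map (J ^ n • (⊤ : Submodule B M)).subtype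
      (J • (⊤ : Submodule B ↥(J ^ n • (⊤ : Submodule B M)))) = J ^ (n + 1) • (⊤ : Submodule B M) := by
    rw [Submodule.map_smul'', Submodule.map_top, Submodule.range_subtype, pow_succ', mul_smul]
  rw [← h1, Submodule.comap_map_eq_of_injective (Submodule.injective_subtype _)]

/-- the inclusion of the graded piece -/
noncomputable def incl' (n : ℕ) : (↥(J ^ n • (⊤ : Submodule B M)) ⧸
    (J • (⊤ : Submodule B ↥(J ^ n • (⊤ : Submodule B M))))) →ₗ[B]
      M ⧸ (J ^ (n + 1) • (⊤ : Submodule B M)) :=
  Submodule.mapQ _ _ (J ^ n • (⊤ : Submodule B M)).subtype (smul_top_le_comap J M n).le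

theorem pow_succ_smul_le (n : ℕ) :
    J ^ (n + 1) • (⊤ : Submodule B M) ≤ J ^ n • (⊤ : Submodule B M) :=
  Submodule.smul_mono_left (Ideal.pow_le_pow_right (Nat.le_succ n))

/-- the projection to the previous quotient -/
noncomputable def proj' (n : ℕ) : (M ⧸ (J ^ (n + 1) • (⊤ : Submodule B M))) →ₗ[B]
      M ⧸ (J ^ n • (⊤ : Submodule B M)) :=
  Submodule.mapQ _ _ LinearMap.id (by
    rw [Submodule.comap_id]
    exact pow_succ_smul_le J M n)

theorem incl'_injective (n : ℕ) : Function.Injective (incl' J M n) := by
  rw [injective_iff_map_eq_zero]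
  intro x hx
  obtain ⟨x, rfl⟩ := Submodule.mkQ_surjective _ x
  rw [Submodule.mkQ_apply, incl', Submodule.mapQ_apply, Submodule.Quotient.mk_eq_zero] at hx
  rw [Submodule.mkQ_apply, Submodule.Quotient.mk_eq_zero, smul_top_le_comap]
  exact hx

theorem proj'_surjective (n : ℕ) : Function.Surjective (proj' J M n) := by
  intro x
  obtain ⟨x, rfl⟩ := Submodule.mkQ_surjective _ x
  exact ⟨Submodule.Quotient.mk x, rfl⟩

theorem exact' (n : ℕ) : Function.Exact (incl' J M n) (proj' J M n) := by
  intro x
  obtain ⟨x, rfl⟩ := Submodule.mkQ_surjective _ x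
  rw [Submodule.mkQ_apply, proj', Submodule.mapQ_apply, LinearMap.id_apply,
    Submodule.Quotient.mk_eq_zero]
  constructor
  · intro hx
    exact ⟨Submodule.Quotient.mk ⟨x, hx⟩, rfl⟩
  · rintro ⟨y, hy⟩
    obtain ⟨y, rfl⟩ := Submodule.mkQ_surjective _ y
    rw [Submodule.mkQ_apply, incl', Submodule.mapQ_apply, Submodule.Quotient.eq] at hy
    have h1 := pow_succ_smul_le J M n hy
    have h2 := Submodule.sub_mem _ y.2 h1
    simpa using h2

/-- Generic flatness of all `M / J^n M`. -/
theorem exists_flat_quotients [IsDomain R] [IsNoetherianRing R] [Algebra.FiniteType R B]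
    [Module.Finite B M] : ∃ f : R, f ≠ 0 ∧ ∀ n : ℕ,
      Module.Flat R (Localization.Away f ⊗[R] (M ⧸ (J ^ n • (⊤ : Submodule B M)))) := by
  have : IsNoetherianRing B := Algebra.FiniteType.isNoetherianRing R B
  have := finite_RM J M
  obtain ⟨f, hf, H⟩ := exists_flat_of_retracts (A := R) J (reesAlgebra J) (RM J M)
  refine ⟨f, hf, fun n => ?_⟩
  induction n with
  | zero =>
    have h0 : Subsingleton (M ⧸ (J ^ 0 • (⊤ : Submodule B M))) := by
      rw [pow_zero, Ideal.one_eq_top, Submodule.top_smul]
      infer_instance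
    have h1 : Subsingleton (Localization.Away f ⊗[R] (M ⧸ (J ^ 0 • (⊤ : Submodule B M)))) :=
      inferInstance
    infer_instance
  | succ n ih =>
    have h1 := H _ (incl J M n) (proj J M n) (proj_incl J M n)
    have h2 : Module.Flat R (Localization.Away f) := IsLocalization.flat _ (Submonoid.powers f)
    refine Divis.FlatExt.flat_of_exact (R := R)
      (f := ((incl' J M n).restrictScalars R).lTensor (Localization.Away f))
      (g := ((proj' J M n).restrictScalars R).lTensor (Localization.Away f)) ?_ ?_ ?_
    · exact Module.Flat.lTensor_preserves_injective_linearMap _ (incl'_injective J M n)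
    · exact lTensor_exact _ (exact' J M n) (proj'_surjective J M n)
    · exact LinearMap.lTensor_surjective _ (proj'_surjective J M n)

end Domain

end K132.GrStrat
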