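import Groth.Agent.EGA43.K132.GrStrat

/-!
# Flatness of the graded pieces after generic base change

* `exists_flat_tensor_quotients`: `A₀` Noetherian, `p` a prime of `A₀`, `J₀` an ideal of the finite type
  `A₀`-algebra `B₀`, `M₀` a finite `B₀`-module: there is `t ∉ p` such that, `A' = (A₀ ⧸ p)_t`, all
  `A' ⊗ (M₀ ⧸ J₀^n M₀)` are flat over `A'`.
* `flat_gradedPiece`: the graded pieces of the image filtration on `A' ⊗ M₀` are flat if the
  `A' ⊗ (M₀ ⧸ J₀^n M₀)` are.
-/

set_option autoImplicit false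
universe u

open TensorProduct

namespace K132.GrStrat2

open Groth.Agent

section Range

variable {B S : Type u} [CommRing B] [CommRing S] [Algebra B S] (I : Ideal B)
  (M : Type u) [AddCommGroup M] [Module B M]

theorem range_baseChange_smul_top :
    LinearMap.range ((I • (⊤ : Submodule B M)).subtype.baseChange S) =
      I.map (algebraMap B S) • (⊤ : Submodule S (S ⊗[B] M)) := by
  apply le_antisymm
  · rintro _ ⟨x, rfl⟩
    induction x with
    | zero => rw [map_zero]; exact zero_mem _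
    | add x y hx hy => rw [map_add]; exact add_mem hx hy
    | tmul s m =>
      rw [LinearMap.baseChange_tmul]
      obtain ⟨m, hm⟩ := m
      change s ⊗ₜ[B] m ∈ _
      induction hm using Submodule.smul_induction_on' with
      | smul b hb x _ =>
        rw [TensorProduct.tmul_smul, ← algebraMap_smul S b]
        exact Submodule.smul_mem_smul (Ideal.mem_map_of_mem _ hb) trivial
      | add x _ y _ hx hy => rw [TensorProduct.tmul_add]; exact add_mem hx hy
  · have key : ∀ c ∈ I.map (algebraMap B S), ∀ z : S ⊗[B] M,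
        c • z ∈ LinearMap.range ((I • (⊤ : Submodule B M)).subtype.baseChange S) := by
      intro c hc
      rw [Ideal.map] at hc
      induction hc using Submodule.span_induction with
      | mem x hx =>
        obtain ⟨b, hb, rfl⟩ := hx
        intro z
        induction z with
        | zero => rw [smul_zero]; exact zero_mem _
        | add x y hx hy => rw [smul_add]; exact add_mem hx hy
        | tmul s m =>
          rw [algebraMap_smul, ← TensorProduct.tmul_smul]
          exact ⟨s ⊗ₜ ⟨b • m, Submodule.smul_mem_smul hb trivial⟩, rfl⟩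
      | zero => intro z; rw [zero_smul]; exact zero_mem _
      | add x y _ _ hx hy => intro z; rw [add_smul]; exact add_mem (hx z) (hy z)
      | smul s x _ hx => intro z; rw [smul_eq_mul, mul_smul]; exact Submodule.smul_mem _ s (hx z)
    intro z hz
    induction hz using Submodule.smul_induction_on' with
    | smul c hc z _ => exact key c hc z
    | add x _ y _ hx hy => exact add_mem hx hy

/-- `S ⊗ (M / K) ≃ (S ⊗ M) / im (S ⊗ K)`. -/
noncomputable def quotEquiv (K : Submodule B M) :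
    ((S ⊗[B] M) ⧸ LinearMap.range (K.subtype.baseChange S)) ≃ₗ[S] S ⊗[B] (M ⧸ K) := by
  have h1 : Function.Surjective (K.mkQ.baseChange S) :=
    LinearMap.lTensor_surjective S K.mkQ_surjective
  have h2 : LinearMap.ker (K.mkQ.baseChange S) = LinearMap.range (K.subtype.baseChange S) := by
    have h3 := lTensor_exact S (LinearMap.exact_subtype_mkQ K) K.mkQ_surjective
    ext x
    exact h3 x
  exact (Submodule.quotEquivOfEq _ _ h2.symm).trans
    ((K.mkQ.baseChange S).quotKerEquivOfSurjective h1)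

end Range

section BaseChange

variable {A₀ : Type u} [CommRing A₀] {B₀ : Type u} [CommRing B₀] [Algebra A₀ B₀] (J₀ : Ideal B₀)
  (M₀ : Type u) [AddCommGroup M₀] [Module B₀ M₀] [Module A₀ M₀] [IsScalarTower A₀ B₀ M₀]

/-- `(S ⊗ M) / I^n (S ⊗ M) ≃ S ⊗ (M / I^n M)`. -/
noncomputable def quotPowEquiv (S : Type u) [CommRing S] [Algebra B₀ S] (n : ℕ) :
    ((S ⊗[B₀] M₀) ⧸ ((J₀.map (algebraMap B₀ S)) ^ n • (⊤ : Submodule S (S ⊗[B₀] M₀)))) ≃ₗ[S]
      S ⊗[B₀] (M₀ ⧸ (J₀ ^ n • (⊤ : Submodule B₀ M₀))) :=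
  (Submodule.quotEquivOfEq _ _ (by
      rw [← Ideal.map_pow, ← range_baseChange_smul_top])).trans (quotEquiv M₀ _)

theorem exists_of_isPushout {R S : Type u} [CommRing R] [IsDomain R] [IsNoetherianRing R]
    [Algebra A₀ R] [CommRing S] [Algebra R S] [Algebra B₀ S] [Algebra A₀ S] [IsScalarTower A₀ R S]
    [IsScalarTower A₀ B₀ S] [Algebra.IsPushout A₀ R B₀ S] [Algebra.FiniteType R S]
    [Module.Finite B₀ M₀] : ∃ f : R, f ≠ 0 ∧ ∀ n : ℕ,
      Module.Flat (Localization.Away f) (Localization.Away f ⊗[A₀]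
        (M₀ ⧸ (J₀ ^ n • (⊤ : Submodule B₀ M₀)))) := by
  obtain ⟨f, hf, H⟩ := GrStrat.exists_flat_quotients (R := R) (B := S)
    (J₀.map (algebraMap B₀ S)) (S ⊗[B₀] M₀)
  refine ⟨f, hf, fun n => ?_⟩
  have h1 : Module.Flat (Localization.Away f) (Localization.Away f ⊗[R] ((S ⊗[B₀] M₀) ⧸
      ((J₀.map (algebraMap B₀ S)) ^ n • (⊤ : Submodule S (S ⊗[B₀] M₀))))) := by
    rw [Module.flat_iff_of_isLocalization (R := R) (S := Localization.Away f)
      (p := Submonoid.powers f)]
    exact H n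
  let e₁ := (quotPowEquiv J₀ M₀ S n).restrictScalars R
  let e₂ : S ⊗[B₀] (M₀ ⧸ (J₀ ^ n • (⊤ : Submodule B₀ M₀))) ≃ₗ[R]
      R ⊗[A₀] (M₀ ⧸ (J₀ ^ n • (⊤ : Submodule B₀ M₀))) :=
    Algebra.IsPushout.cancelBaseChange A₀ R B₀ S _
  let e₃ := (AlgebraTensorModule.congr (LinearEquiv.refl (Localization.Away f)
      (Localization.Away f)) (e₁.trans e₂)) ≪≫ₗ
      (AlgebraTensorModule.cancelBaseChange A₀ R (Localization.Away f) (Localization.Away f)
        (M₀ ⧸ (J₀ ^ n • (⊤ : Submodule B₀ M₀))))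
  exact Module.Flat.of_linearEquiv e₃.symm

attribute [local instance] Algebra.TensorProduct.rightAlgebra

theorem exists_flat_tensor_quotients [IsNoetherianRing A₀] [Algebra.FiniteType A₀ B₀]
    [Module.Finite B₀ M₀] (p : Ideal A₀) [p.IsPrime] : ∃ t : A₀, t ∉ p ∧ ∀ n : ℕ,
    Module.Flat (Localization.Away (Ideal.Quotient.mk p t))
      (Localization.Away (Ideal.Quotient.mk p t) ⊗[A₀]
        (M₀ ⧸ (J₀ ^ n • (⊤ : Submodule B₀ M₀)))) := by
  obtain ⟨f, hf, H⟩ := exists_of_isPushout (A₀ := A₀) J₀ M₀ (R := A₀ ⧸ p) (S := (A₀ ⧸ p) ⊗[A₀] B₀)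
  obtain ⟨t, rfl⟩ := Ideal.Quotient.mk_surjective f
  exact ⟨t, fun h => hf (Ideal.Quotient.eq_zero_iff_mem.mpr h), H⟩

end BaseChange

section Graded

variable {A₀ : Type u} [CommRing A₀] (M₀ : Type u) [AddCommGroup M₀] [Module A₀ M₀]
  (A' : Type u) [CommRing A'] [Algebra A₀ A']

/-- Graded pieces of an image filtration. -/
theorem flat_map_mkQ (K K' : Submodule A₀ M₀) (hle : K' ≤ K)
    [Module.Flat A' (A' ⊗[A₀] (M₀ ⧸ K))] [Module.Flat A' (A' ⊗[A₀] (M₀ ⧸ K'))] :
    Module.Flat A' ↥(Submodule.map (LinearMap.range (K'.subtype.baseChange A')).mkQ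
      (LinearMap.range (K.subtype.baseChange A'))) := by
  have hPle : LinearMap.range (K'.subtype.baseChange A') ≤
      LinearMap.range (K.subtype.baseChange A') := by
    have h1 : K'.subtype = K.subtype ∘ₗ Submodule.inclusion hle := rfl
    rw [h1, LinearMap.baseChange_comp]
    exact LinearMap.range_comp_le_range _ _
  have h1 : Module.Flat A' ((A' ⊗[A₀] M₀) ⧸ LinearMap.range (K.subtype.baseChange A')) :=
    Module.Flat.of_linearEquiv (quotEquiv M₀ K)
  have h2 : Module.Flat A' ((A' ⊗[A₀] M₀) ⧸ LinearMap.range (K'.subtype.baseChange A')) :=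
    Module.Flat.of_linearEquiv (quotEquiv M₀ K')
  let g : ((A' ⊗[A₀] M₀) ⧸ LinearMap.range (K'.subtype.baseChange A')) →ₗ[A']
      ((A' ⊗[A₀] M₀) ⧸ LinearMap.range (K.subtype.baseChange A')) :=
    Submodule.mapQ _ _ LinearMap.id (by rw [Submodule.comap_id]; exact hPle)
  refine Divis.FlatExt.flat_of_exact_left (R := A') (f := Submodule.subtype _) (g := g)
    (Submodule.subtype_injective _) ?_ ?_
  · intro x
    obtain ⟨x, rfl⟩ := Submodule.mkQ_surjective _ x
    rw [Submodule.mkQ_apply, Submodule.mapQ_apply, LinearMap.id_apply,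
      Submodule.Quotient.mk_eq_zero]
    constructor
    · intro hx
      exact ⟨⟨Submodule.Quotient.mk x, x, hx, rfl⟩, rfl⟩
    · rintro ⟨⟨_, y, hy, rfl⟩, hxy⟩
      have h3 : (Submodule.Quotient.mk y : (A' ⊗[A₀] M₀) ⧸ LinearMap.range (K'.subtype.baseChange A')) =
        Submodule.Quotient.mk x := hxy
      rw [Submodule.Quotient.eq] at h3
      have h4 := Submodule.sub_mem _ hy (hPle h3)
      simpa using h4
  · intro x
    obtain ⟨x, rfl⟩ := Submodule.mkQ_surjective _ x
    exact ⟨Submodule.Quotient.mk x, rfl⟩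

end Graded

end K132.GrStrat2
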