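import Groth.Agent.EGA43.K132.GrStrat2
import Mathlib.AlgebraicGeometry.Morphisms.Immersion
import Mathlib.RingTheory.Ideal.MinimalPrime.Noetherian
import Mathlib.RingTheory.Ideal.MinimalPrime.Colon

/-!
# Affine stratification by localizations of quotients by primes
-/

set_option autoImplicit false
universe u

open TensorProduct AlgebraicGeometry CategoryTheory

namespace K132.GrStrat3

open Groth.Agent

variable {A₀ : Type u} [CommRing A₀]

/-- The ring of a stratum. -/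
abbrev Loc (x : A₀ × Ideal A₀) : Type u := Localization.Away (Ideal.Quotient.mk x.2 x.1)

/-- The underlying set of a stratum. -/
def Str (x : A₀ × Ideal A₀) : Set (PrimeSpectrum A₀) := {q | x.2 ≤ q.asIdeal ∧ x.1 ∉ q.asIdeal}

theorem specMap_eq (x : A₀ × Ideal A₀) : Spec.map (CommRingCat.ofHom (algebraMap A₀ (Loc x))) =
    Spec.map (CommRingCat.ofHom (algebraMap (A₀ ⧸ x.2) (Loc x))) ≫
      Spec.map (CommRingCat.ofHom (Ideal.Quotient.mk x.2)) := by
  rw [← Spec.map_comp, ← CommRingCat.ofHom_comp]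

theorem isImmersion (x : A₀ × Ideal A₀) :
    IsImmersion (Spec.map (CommRingCat.ofHom (algebraMap A₀ (Loc x)))) := by
  rw [specMap_eq]
  have h1 : IsOpenImmersion (Spec.map (CommRingCat.ofHom (algebraMap (A₀ ⧸ x.2) (Loc x)))) :=
    IsOpenImmersion.of_isLocalization (Ideal.Quotient.mk x.2 x.1)
  have h2 : IsClosedImmersion (Spec.map (CommRingCat.ofHom (Ideal.Quotient.mk x.2))) :=
    IsClosedImmersion.spec_of_surjective _ Ideal.Quotient.mk_surjective
  infer_instance

theorem range_specMap (x : A₀ × Ideal A₀) :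
    Set.range (Spec.map (CommRingCat.ofHom (algebraMap A₀ (Loc x)))) = Str x := by
  have h0 : algebraMap A₀ (Loc x) =
      (algebraMap (A₀ ⧸ x.2) (Loc x)).comp (Ideal.Quotient.mk x.2) := rfl
  change Set.range (PrimeSpectrum.comap (algebraMap A₀ (Loc x))) = _
  rw [h0, PrimeSpectrum.comap_comp]
  have h1 : Set.range (PrimeSpectrum.comap (algebraMap (A₀ ⧸ x.2) (Loc x))) =
      PrimeSpectrum.basicOpen (Ideal.Quotient.mk x.2 x.1) :=
    PrimeSpectrum.localization_away_comap_range (Loc x) (Ideal.Quotient.mk x.2 x.1)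
  have h2 : Set.range (PrimeSpectrum.comap (Ideal.Quotient.mk x.2)) =
      PrimeSpectrum.zeroLocus (x.2 : Set A₀) := by
    rw [range_comap_of_surjective _ _ Ideal.Quotient.mk_surjective, Ideal.mk_ker]
  ext q
  constructor
  · rintro ⟨y, rfl⟩
    have hy : PrimeSpectrum.comap (algebraMap (A₀ ⧸ x.2) (Loc x)) y ∈
      Set.range (PrimeSpectrum.comap (algebraMap (A₀ ⧸ x.2) (Loc x))) := ⟨y, rfl⟩
    rw [h1] at hy
    have hq : PrimeSpectrum.comap (Ideal.Quotient.mk x.2)
      (PrimeSpectrum.comap (algebraMap (A₀ ⧸ x.2) (Loc x)) y) ∈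
      Set.range (PrimeSpectrum.comap (Ideal.Quotient.mk x.2)) := ⟨_, rfl⟩
    rw [h2] at hq
    exact ⟨hq, hy⟩
  · rintro ⟨hq1, hq2⟩
    have hq : q ∈ Set.range (PrimeSpectrum.comap (Ideal.Quotient.mk x.2)) := by
      rw [h2]
      exact hq1
    obtain ⟨z, rfl⟩ := hq
    have hz : z ∈ Set.range (PrimeSpectrum.comap (algebraMap (A₀ ⧸ x.2) (Loc x))) := by
      rw [h1]
      exact hq2
    obtain ⟨y, rfl⟩ := hz
    exact ⟨y, rfl⟩

variable {B₀ : Type u} [CommRing B₀] [Algebra A₀ B₀] (J₀ : Ideal B₀)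
  (M₀ : Type u) [AddCommGroup M₀] [Module B₀ M₀] [Module A₀ M₀] [IsScalarTower A₀ B₀ M₀]

theorem exists_flat_of_isUnit [IsNoetherianRing A₀] [Algebra.FiniteType A₀ B₀]
    [Module.Finite B₀ M₀] (p : Ideal A₀) [p.IsPrime] : ∃ t : A₀, t ∉ p ∧
    ∀ (A' : Type u) [CommRing A'] [Algebra A₀ A'], (∀ a ∈ p, algebraMap A₀ A' a = 0) →
      IsUnit (algebraMap A₀ A' t) → ∀ n : ℕ,
        Module.Flat A' (A' ⊗[A₀] (M₀ ⧸ (J₀ ^ n • (⊤ : Submodule B₀ M₀)))) := by
  obtain ⟨t, ht, H⟩ := GrStrat2.exists_flat_tensor_quotients J₀ M₀ p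
  refine ⟨t, ht, fun A' _ _ hp hu n => ?_⟩
  let _ : Algebra (A₀ ⧸ p) A' := (Ideal.Quotient.lift p (algebraMap A₀ A') hp).toAlgebra
  have : IsScalarTower A₀ (A₀ ⧸ p) A' := IsScalarTower.of_algebraMap_eq (fun a => rfl)
  let L := Localization.Away (Ideal.Quotient.mk p t)
  have hu' : IsUnit (algebraMap (A₀ ⧸ p) A' (Ideal.Quotient.mk p t)) := hu
  let _ : Algebra L A' := (IsLocalization.Away.lift (Ideal.Quotient.mk p t) hu').toAlgebra
  have : IsScalarTower (A₀ ⧸ p) L A' := IsScalarTower.of_algebraMap_eq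
    (fun a => (IsLocalization.Away.lift_eq (Ideal.Quotient.mk p t) hu' a).symm)
  have : IsScalarTower A₀ L A' := by
    refine IsScalarTower.of_algebraMap_eq (fun a => ?_)
    have h1 : algebraMap A₀ L a = algebraMap (A₀ ⧸ p) L (Ideal.Quotient.mk p a) := rfl
    rw [h1, ← IsScalarTower.algebraMap_apply (A₀ ⧸ p) L A']
    rfl
  have h2 := H n
  have h3 : Module.Flat A' (A' ⊗[L] (L ⊗[A₀] (M₀ ⧸ (J₀ ^ n • (⊤ : Submodule B₀ M₀))))) :=
    inferInstance
  exact Module.Flat.of_linearEquiv (AlgebraTensorModule.cancelBaseChange A₀ L A' A'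
    (M₀ ⧸ (J₀ ^ n • (⊤ : Submodule B₀ M₀)))).symm

theorem exists_prime_pow_mul_le [IsNoetherianRing A₀] (I : Ideal A₀)
    (hI : I ≠ ⊤) : ∃ (p : Ideal A₀) (_ : p.IsPrime) (n : ℕ) (t : A₀), I ≤ p ∧ t ∉ p ∧
      ∀ x ∈ p ^ n, t * x ∈ I := by
  classical
  obtain ⟨p, hp⟩ := Ideal.nonempty_minimalPrimes hI
  have hpp : p.IsPrime := hp.isPrime
  obtain ⟨n, hn⟩ := I.exists_radical_pow_le_of_fg I.radical.fg_of_isNoetherianRing
  have hn0 : n ≠ 0 := by
    rintro rfl
    rw [pow_zero, Ideal.one_eq_top, top_le_iff] at hn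
    exact hI hn
  have h := I.finite_minimalPrimes_of_isNoetherianRing A₀
  rw [← I.sInf_minimalPrimes, ← h.coe_toFinset, ← h.toFinset.inf_id_eq_sInf,
    ← Finset.insert_erase (h.mem_toFinset.mpr hp), Finset.inf_insert, id_eq] at hn
  grw [← Ideal.mul_le_inf, mul_pow] at hn
  have hJ : ¬ ((h.toFinset.erase p).inf id) ^ n ≤ p := by
    have (K : Ideal A₀) (hKI : K ≤ p) (hK : K ∈ I.minimalPrimes) : K = p :=
      le_antisymm hKI (hp.2 hK.1 hKI)
    simp only [hp.isPrime.pow_le_iff hn0, hp.isPrime.inf_le', not_exists, not_and]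
    intro x hx hle
    rw [Finset.mem_erase, h.mem_toFinset] at hx
    exact hx.1 (this x hle hx.2)
  obtain ⟨t, ht, htp⟩ := SetLike.not_le_iff_exists.mp hJ
  refine ⟨p, hpp, n, t, hp.1.2, htp, fun x hx => hn ?_⟩
  exact mul_comm x t ▸ Ideal.mul_mem_mul hx ht

/-- Noetherian induction: the strata, as a list. -/
theorem exists_list [IsNoetherianRing A₀] [Algebra.FiniteType A₀ B₀] [Module.Finite B₀ M₀]
    (I : Ideal A₀) : ∃ l : List (A₀ × Ideal A₀),
      (∀ q : PrimeSpectrum A₀, I ≤ q.asIdeal ↔ ∃ x ∈ l, q ∈ Str x) ∧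
      l.Pairwise (fun x y => ∀ q ∈ Str y, x.1 ∈ q.asIdeal) ∧
      ∀ x ∈ l, ∀ n : ℕ, Module.Flat (Loc x)
        (Loc x ⊗[A₀] (M₀ ⧸ (J₀ ^ n • (⊤ : Submodule B₀ M₀)))) := by
  induction I using IsNoetherian.induction with
  | hgt I ih =>
    by_cases hI : I = ⊤
    · subst hI
      refine ⟨[], fun q => ?_, List.Pairwise.nil, by simp⟩
      simp only [top_le_iff, List.not_mem_nil, false_and, exists_false, iff_false]
      exact q.2.ne_top
    · obtain ⟨p, hp, n, t, hIp, htp, hpn⟩ := exists_prime_pow_mul_le I hI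
      obtain ⟨t', ht', H⟩ := exists_flat_of_isUnit J₀ M₀ p
      have hs : t * t' ∉ p := fun h => (hp.mem_or_mem h).elim htp ht'
      have hlt : I < I ⊔ Ideal.span {t * t'} := by
        refine lt_of_le_of_ne le_sup_left fun h => hs (hIp ?_)
        rw [h]
        exact Ideal.mem_sup_right (Ideal.mem_span_singleton_self _)
      obtain ⟨l, hl1, hl2, hl3⟩ := ih _ hlt
      have hle : ∀ q : PrimeSpectrum A₀, I ⊔ Ideal.span {t * t'} ≤ q.asIdeal ↔
          I ≤ q.asIdeal ∧ t * t' ∈ q.asIdeal := by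
        intro q
        rw [sup_le_iff, Ideal.span_singleton_le_iff_mem]
      have hstr : ∀ q : PrimeSpectrum A₀, q ∈ Str (t * t', p) ↔
          I ≤ q.asIdeal ∧ t * t' ∉ q.asIdeal := by
        intro q
        constructor
        · rintro ⟨h1, h2⟩
          exact ⟨hIp.trans h1, h2⟩
        · rintro ⟨h1, h2⟩
          refine ⟨?_, h2⟩
          have ht : t ∉ q.asIdeal := fun h => h2 (Ideal.mul_mem_right _ _ h)
          refine q.2.le_of_pow_le (n := n) fun y hy => ?_
          exact (q.2.mem_or_mem (h1 (hpn y hy))).resolve_left ht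
      refine ⟨(t * t', p) :: l, fun q => ?_, ?_, ?_⟩
      · rw [List.exists_mem_cons_iff, hstr, ← hl1, hle]
        tauto
      · rw [List.pairwise_cons]
        refine ⟨fun y hy q hq => ?_, hl2⟩
        exact ((hle q).mp ((hl1 q).mpr ⟨y, hy, hq⟩)).2
      · intro x hx
        rw [List.mem_cons] at hx
        rcases hx with rfl | hx
        · refine H (Loc (t * t', p)) (fun a ha => ?_) ?_
          · have h1 : algebraMap A₀ (Loc (t * t', p)) a =
              algebraMap (A₀ ⧸ p) (Loc (t * t', p)) (Ideal.Quotient.mk p a) := rfl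
            rw [h1, Ideal.Quotient.eq_zero_iff_mem.mpr ha, map_zero]
          · have h1 : IsUnit (algebraMap (A₀ ⧸ p) (Loc (t * t', p)) (Ideal.Quotient.mk p (t * t'))) :=
              IsLocalization.Away.algebraMap_isUnit _
            have h2 : algebraMap (A₀ ⧸ p) (Loc (t * t', p)) (Ideal.Quotient.mk p (t * t')) =
                algebraMap A₀ (Loc (t * t', p)) t * algebraMap A₀ (Loc (t * t', p)) t' :=
              map_mul (algebraMap A₀ (Loc (t * t', p))) t t'
            exact (IsUnit.mul_iff.mp (h2 ▸ h1)).2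
        · exact hl3 x hx

end K132.GrStrat3
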