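import Groth.Agent.EGA43.K132.PdFibre
import Groth.Agent.Models.TorVan
import Groth.Agent.CycA.TorShift

/-!
# Projective dimension and Tor-dimension of relatively flat finitely presented modules
-/

set_option autoImplicit false
universe u

open TensorProduct CategoryTheory

namespace K132.PdTor

open Groth.Agent.Ega43 Groth.Agent.Ega4A.ProjDim

variable (A B : Type u) [CommRing A] [CommRing B] [Algebra A B] [Algebra.FinitePresentation A B]
  [Module.Flat A B]

/-- A relatively flat finitely presented module has projective dimension `< n` iff its `Tor_i` vanish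
for `i ≥ n`. -/
theorem hasPDLT_iff_tor (n : ℕ) :
    ∀ (M : Type u) [AddCommGroup M] [Module B M] [Module A M] [IsScalarTower A B M]
      [Module.FinitePresentation B M] [Module.Flat A M],
      HasProjectiveDimensionLT (ModuleCat.of B M) n ↔
        ∀ i : ℕ, n ≤ i → ∀ (N : Type u) [AddCommGroup N] [Module B N],
          Subsingleton (DRing.Tor B i M N) := by
  induction n with
  | zero =>
    intro M _ _ _ _ _ _
    rw [hasPDLT_zero_iff]
    constructor
    · intro h i _ N _ _
      cases i with
      | zero => exact (Groth.Agent.CycA.TorShift.zeroEquiv B M N).injective.subsingleton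
      | succ i => exact Groth.Agent.Models.TorVan.subsingleton_tor_of_flat M N i
    · intro h
      have h1 := h 0 le_rfl B
      have h2 : Subsingleton (M ⊗[B] B) :=
        (Groth.Agent.CycA.TorShift.zeroEquiv B M B).symm.injective.subsingleton
      exact (TensorProduct.rid B M).symm.injective.subsingleton
  | succ n ih =>
    intro M _ _ _ _ _ _
    cases n with
    | zero =>
      simp only [zero_add, hasPDLT_one_iff]
      constructor
      · intro h i hi N _ _
        obtain ⟨j, rfl⟩ : ∃ j, i = j + 1 := ⟨i - 1, by omega⟩
        exact Groth.Agent.Models.TorVan.subsingleton_tor_of_flat M N j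
      · intro h
        have h1 : Module.Flat B M :=
          (Groth.Agent.Models.TorVan.flat_iff_tor_one M).mpr fun N _ _ => h 1 le_rfl N
        exact Module.Flat.projective_of_finitePresentation
    | succ n =>
      obtain ⟨m, f, hf⟩ := Module.Finite.exists_fin' B M
      have hK : Module.FinitePresentation B (LinearMap.ker f) := FlatKer.kerFP A B M m f hf
      have hflk : Module.Flat A (LinearMap.ker f) := by
        have : Module.Flat A (Fin m → B) := Module.Flat.trans A B (Fin m → B)
        exact Groth.Agent.Divis.FlatExt.flat_of_exact_left
          (f := (LinearMap.ker f).subtype.restrictScalars A)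
          (g := f.restrictScalars A) (Submodule.injective_subtype _)
          (LinearMap.exact_subtype_ker_map f) hf
      have hinj : Function.Injective (LinearMap.ker f).subtype := Submodule.subtype_injective _
      have hex : Function.Exact (LinearMap.ker f).subtype f := LinearMap.exact_subtype_ker_map f
      rw [hasPDLT_iff_of_exact _ f hinj hf hex n, ih]
      constructor
      · intro h i hi N _ _
        obtain ⟨j, rfl⟩ : ∃ j, i = j + 2 := ⟨i - 2, by omega⟩
        exact (Groth.Agent.Models.TorVan.tor_shift_iff _ f hinj hex hf N j).mpr (h (j + 1) (by omega) N)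
      · intro h i hi N _ _
        obtain ⟨j, rfl⟩ : ∃ j, i = j + 1 := ⟨i - 1, by omega⟩
        exact (Groth.Agent.Models.TorVan.tor_shift_iff _ f hinj hex hf N j).mp (h (j + 2) (by omega) N)

/-- The projective dimension of a relatively flat finitely presented module is its Tor-dimension. -/
theorem projectiveDimension_eq (M : Type u) [AddCommGroup M] [Module B M] [Module A M]
    [IsScalarTower A B M] [Module.FinitePresentation B M] [Module.Flat A M] :
    projectiveDimension (ModuleCat.of B M) =
      sInf {n : WithBot ℕ∞ | ∀ i : ℕ, n < i → ∀ N : ModuleCat.{u} B,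
        Limits.IsZero (((Tor (ModuleCat.{u} B) i).obj (ModuleCat.of B M)).obj N)} := by
  have key : ∀ (n : ℕ), HasProjectiveDimensionLT (ModuleCat.of B M) n ↔
      ∀ i : ℕ, n ≤ i → ∀ N : ModuleCat.{u} B,
        Limits.IsZero (((Tor (ModuleCat.{u} B) i).obj (ModuleCat.of B M)).obj N) := by
    intro n
    rw [hasPDLT_iff_tor A B n M]
    refine forall₂_congr fun i _ => ?_
    constructor
    · intro h N
      rw [ModuleCat.isZero_iff_subsingleton]
      exact h N
    · intro h N _ _
      exact ModuleCat.isZero_iff_subsingleton.mp (h (ModuleCat.of B N))
  -- `n` belongs to the set iff the projective dimension is `≤ n`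
  have key2 : ∀ n : WithBot ℕ∞, (∀ i : ℕ, n < i → ∀ N : ModuleCat.{u} B,
        Limits.IsZero (((Tor (ModuleCat.{u} B) i).obj (ModuleCat.of B M)).obj N)) ↔
      projectiveDimension (ModuleCat.of B M) ≤ n := by
    intro n
    induction n with
    | bot =>
      rw [le_bot_iff, projectiveDimension_eq_bot_iff, ← hasProjectiveDimensionLT_zero_iff_isZero,
        key 0]
      exact ⟨fun h i _ => h i (WithBot.bot_lt_coe _), fun h i _ => h i (Nat.zero_le _)⟩
    | coe n =>
      induction n with
      | top =>
        constructor
        · intro _
          exact le_top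
        · intro _ i hi
          exact absurd hi (by
            rw [not_lt]
            exact le_top)
      | coe n =>
        have h1 : projectiveDimension (ModuleCat.of B M) ≤ ((n : ℕ∞) : WithBot ℕ∞) ↔
            HasProjectiveDimensionLT (ModuleCat.of B M) (n + 1) :=
          projectiveDimension_le_iff (ModuleCat.of B M) n
        rw [h1, key (n + 1)]
        refine forall_congr' fun i => ?_
        have h2 : (((n : ℕ∞) : WithBot ℕ∞) < (i : WithBot ℕ∞)) ↔ n + 1 ≤ i := by
          rw [Nat.succ_le_iff]
          exact WithBot.coe_lt_coe.trans Nat.cast_lt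
        rw [h2]
  apply le_antisymm
  · exact le_sInf fun n hn => (key2 n).mp hn
  · exact sInf_le ((key2 _).mpr le_rfl)

end K132.PdTor
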