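import Groth.Agent.EGA43.K132.DvrProper
import Groth.Agent.EGA43.K132.DvrSpec
import Groth.Agent.Ega43.MaxPoints
import Groth.Agent.Ega43.DvrScheme
import Groth.Agent.Ega43.OpenAt
import Mathlib.AlgebraicGeometry.ValuativeCriterion

/-!
# Flat morphisms with a proper fibre and geometrically connected maximal fibres are proper nearby
-/

set_option autoImplicit false
universe u

open CategoryTheory CategoryTheory.Limits AlgebraicGeometry Groth.Agent IsLocalRing

namespace K132.ProperFlat

open Ega43.MaxPoints

/-- The complement of an open subscheme of a proper scheme which does not meet a fibre. -/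
theorem exists_isProper_restrict {X P Y : Scheme.{u}} (f : X ⟶ Y) (j : X ⟶ P) (p : P ⟶ Y)
    [IsProper p] [IsOpenImmersion j] (hcomm : j ≫ p = f) (y : Y)
    (h : ∀ z : P, z ∈ closure (Set.range j) → p z = y → z ∈ Set.range j) :
    ∃ U : Y.Opens, y ∈ U ∧ IsProper (f ∣_ U) := by
  have hZ : IsClosed (closure (Set.range j) \ Set.range j) :=
    isClosed_closure.sdiff j.isOpenEmbedding.isOpen_range
  have hpZ : IsClosed (p '' (closure (Set.range j) \ Set.range j)) := p.isClosedMap _ hZ
  let U : Y.Opens := ⟨(p '' (closure (Set.range j) \ Set.range j))ᶜ, hpZ.isOpen_compl⟩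
  have hpU : ∀ z : P, p z ∈ U → z ∈ closure (Set.range j) → z ∈ Set.range j := by
    intro z hz hz'
    by_contra hzn
    exact hz ⟨z, ⟨hz', hzn⟩, rfl⟩
  refine ⟨U, ?_, ?_⟩
  · rintro ⟨z, hz, hzy⟩
    exact hz.2 (h z hz.1 hzy)
  · have hcl : IsClosedImmersion (j ∣_ (p ⁻¹ᵁ U)) := by
      refine IsClosedImmersion.of_isPreimmersion _ ?_
      have h1 : Set.range (j ∣_ (p ⁻¹ᵁ U)) = (p ⁻¹ᵁ U).ι ⁻¹' closure (Set.range j) := by
        ext z
        rw [Set.mem_preimage]
        constructor
        · rintro ⟨w, rfl⟩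
          apply subset_closure
          rw [← Scheme.Hom.comp_apply, morphismRestrict_ι, Scheme.Hom.comp_apply]
          exact ⟨_, rfl⟩
        · intro hz
          obtain ⟨w, hw⟩ := hpU _ z.2 hz
          have hw' : w ∈ j ⁻¹ᵁ (p ⁻¹ᵁ U) := by
            change j w ∈ p ⁻¹ᵁ U
            rw [hw]
            exact z.2
          let w' : ((j ⁻¹ᵁ (p ⁻¹ᵁ U) : X.Opens) : Scheme.{u}) := ⟨w, hw'⟩
          refine ⟨w', ?_⟩
          apply (p ⁻¹ᵁ U).ι.isOpenEmbedding.injective
          have h3 : (p ⁻¹ᵁ U).ι ((j ∣_ (p ⁻¹ᵁ U)) w') = j ((j ⁻¹ᵁ (p ⁻¹ᵁ U)).ι w') := by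
            rw [← Scheme.Hom.comp_apply, morphismRestrict_ι, Scheme.Hom.comp_apply]
          exact h3.trans hw
      rw [h1]
      exact isClosed_closure.preimage (p ⁻¹ᵁ U).ι.continuous
    have h1 : IsProper ((j ≫ p) ∣_ U) := by
      rw [morphismRestrict_comp]
      have h5 : IsProper (j ∣_ (p ⁻¹ᵁ U)) := by infer_instance
      have h6 : IsProper (p ∣_ U) := IsZariskiLocalAtTarget.restrict ‹_› _
      exact MorphismProperty.comp_mem @IsProper _ _ h5 h6
    rw [hcomm] at h1
    exact h1

/-- Maximal points of the source of a flat morphism map to maximal points. -/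
theorem isMaxPt_of_flat {X Y : Scheme.{u}} (f : X ⟶ Y) [Flat f] {x : X} (hx : IsMaxPt x) :
    IsMaxPt (f x) := by
  intro y hy
  obtain ⟨x', hx', rfl⟩ := Flat.generalizingMap f hy
  rw [hx x' hx']

/-- Base change of a fibre to a field-valued point or a discrete valuation ring. -/
theorem nonempty_fiber_of_isPullback {X Y X' Y' : Scheme.{u}} {f : X ⟶ Y} {f' : X' ⟶ Y'}
    {g' : X' ⟶ X} {g : Y' ⟶ Y} (sq : IsPullback g' f' f g) (y' : Y')
    (h : Nonempty (f.fiber (g y'))) : Nonempty (f'.fiber y') := by
  have hs : Surjective (f.fiberToSpecResidueField (g y')) := by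
    refine ⟨fun p => ?_⟩
    obtain ⟨x⟩ := h
    exact ⟨x, Subsingleton.elim (α := PrimeSpectrum (Y.residueField (g y'))) _ _⟩
  have hs' : Surjective (f'.fiberToSpecResidueField y') :=
    MorphismProperty.of_isPullback (isPullback_fiberToSpecResidueField_of_isPullback sq y') hs
  obtain ⟨x, -⟩ := hs'.surj (closedPoint (Y'.residueField y'))
  exact ⟨x⟩

variable {X S : Scheme.{u}}

/-- The key step: lifting of discrete valuation rings through generic points. -/
theorem mem_range [IsLocallyNoetherian S] (f : X ⟶ S)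
    [Flat f] [IsSeparated f] [LocallyOfFiniteType f] [QuasiCompact f]
    (hgen : ∀ η : S, IsMaxPt η → Nonempty ↥(f.fiber η) →
      GeometricallyConnected (f.fiberToSpecResidueField η))
    (s : S) (hne : Nonempty ↥(f.fiber s)) (hs : IsProper (f.fiberToSpecResidueField s))
    {P : Scheme.{u}} (j : X ⟶ P) [IsOpenImmersion j] [QuasiCompact j] (p : P ⟶ S) [IsProper p]
    (hcomm : j ≫ p = f) (z : P) (hz : z ∈ closure (Set.range j)) (hzs : p z = s) :
    z ∈ Set.range j := by
  have hP : IsLocallyNoetherian P := LocallyOfFiniteType.isLocallyNoetherian p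
  have hcons : Topology.IsLocallyConstructible (Set.range j) := by
    rw [← Set.image_univ]
    exact j.isLocallyConstructible_image Topology.IsLocallyConstructible.univ
  obtain ⟨_, ⟨x₀, rfl⟩, hx₀⟩ := Ega43.OpenAt.exists_specializes_of_isLocallyConstructible hcons hz
  obtain ⟨x, hx, hxmax, -⟩ := exists_isMaxPt_specializes x₀
  have hxz : j x ⤳ z := (hx.map j.continuous).trans hx₀
  by_cases hxz' : j x = z
  · exact ⟨x, hxz'⟩
  obtain ⟨R, _, _, _, _, _, g, hg1, hg2⟩ :=
    Ega43.DvrScheme.exists_dvr_of_specializes_of_locallyOfFiniteType j x hxz hxz'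
  let i : Spec (CommRingCat.of R) ⟶ S := g ≫ p
  have hic : i (closedPoint R) = s := by
    rw [← hzs, ← hg1]; rfl
  have hiη : i (genericPoint ↥(Spec (CommRingCat.of R))) = f x := by
    have h1 : (Spec.map (CommRingCat.ofHom (algebraMap R (X.residueField x))))
        (closedPoint (X.residueField x)) = genericPoint ↥(Spec (CommRingCat.of R)) := by
      rw [DvrSpec.genericPoint_eq R]
      apply PrimeSpectrum.ext
      change (maximalIdeal (X.residueField x)).comap (algebraMap R (X.residueField x)) = ⊥
      rw [IsLocalRing.maximalIdeal_eq_bot]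
      exact (RingHom.injective_iff_ker_eq_bot _).mp (IsFractionRing.injective R _)
    rw [← h1]
    have h2 : (Spec.map (CommRingCat.ofHom (algebraMap R (X.residueField x))) ≫ i)
        (closedPoint (X.residueField x)) = f x := by
      change (Spec.map (CommRingCat.ofHom (algebraMap R (X.residueField x))) ≫ g ≫ p)
        (closedPoint (X.residueField x)) = f x
      have h3 : Spec.map (CommRingCat.ofHom (algebraMap R (X.residueField x))) ≫ g ≫ p =
          X.fromSpecResidueField x ≫ f := by
        rw [← Category.assoc, hg2, Category.assoc, hcomm]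
      rw [h3]
      exact (Scheme.Hom.comp_apply _ _ _).trans
        (congrArg f (Scheme.fromSpecResidueField_apply _ _))
    exact h2
  have sq : IsPullback (pullback.fst f i) (pullback.snd f i) f i := IsPullback.of_hasPullback f i
  have i1 : IsProper ((pullback.snd f i).fiberToSpecResidueField (closedPoint R)) := by
    refine MorphismProperty.of_isPullback
      (isPullback_fiberToSpecResidueField_of_isPullback sq (closedPoint R)) ?_
    rw [hic]; exact hs
  have i2 : Nonempty ((pullback.snd f i).fiber (closedPoint R)) := by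
    refine nonempty_fiber_of_isPullback sq _ ?_
    rw [hic]; exact hne
  have hfx : Nonempty (f.fiber (f x)) := ⟨f.asFiber x⟩
  have i3 : GeometricallyConnected ((pullback.snd f i).fiberToSpecResidueField
      (genericPoint ↥(Spec (CommRingCat.of R)))) := by
    refine MorphismProperty.of_isPullback
      (isPullback_fiberToSpecResidueField_of_isPullback sq _) ?_
    rw [hiη]
    exact hgen _ (isMaxPt_of_flat f hxmax) hfx
  have hprop : IsProper (pullback.snd f i) :=
    DvrProper.isProper_of_dvr R (pullback.snd f i) (closedPoint R)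
      (genericPoint ↥(Spec (CommRingCat.of R))) (DvrSpec.closedPoint_mem R)
      (DvrSpec.isOpen_genericPoint R) (DvrSpec.genericPoint_specializes' R _)
  have hv : (ValuativeCriterion.Existence ⊓ @QuasiCompact : MorphismProperty Scheme.{u})
      (pullback.snd f i) := by
    rw [← UniversallyClosed.eq_valuativeCriterion]; infer_instance
  have hw : X.fromSpecResidueField x ≫ f =
      Spec.map (CommRingCat.ofHom (algebraMap R (X.residueField x))) ≫ i := by
    change _ = Spec.map (CommRingCat.ofHom (algebraMap R (X.residueField x))) ≫ g ≫ p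
    rw [← Category.assoc, hg2, Category.assoc, hcomm]
  let S1 : ValuativeCommSq (pullback.snd f i) :=
    { R := R
      K := X.residueField x
      i₁ := pullback.lift (X.fromSpecResidueField x)
        (Spec.map (CommRingCat.ofHom (algebraMap R (X.residueField x)))) hw
      i₂ := 𝟙 _
      commSq := ⟨by rw [pullback.lift_snd, Category.comp_id]⟩ }
  obtain ⟨l₀, hl₀1, hl₀2⟩ := (hv.1 S1).exists_lift.some
  let l : Spec (CommRingCat.of R) ⟶ X := l₀ ≫ pullback.fst f i
  have hl1 : Spec.map (CommRingCat.ofHom (algebraMap R (X.residueField x))) ≫ l =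
      X.fromSpecResidueField x := by
    change _ ≫ l₀ ≫ pullback.fst f i = _
    have := congrArg (· ≫ pullback.fst f i) hl₀1
    simp only [Category.assoc] at this
    exact this.trans (pullback.lift_fst _ _ _)
  have hl2 : l ≫ f = i := by
    change (l₀ ≫ pullback.fst f i) ≫ f = i
    rw [Category.assoc, pullback.condition, ← Category.assoc]
    have : l₀ ≫ pullback.snd f i = 𝟙 _ := hl₀2
    rw [this, Category.id_comp]
  -- uniqueness
  let S2 : ValuativeCommSq p :=
    { R := R
      K := X.residueField x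
      i₁ := X.fromSpecResidueField x ≫ j
      i₂ := g ≫ p
      commSq := ⟨by rw [← hg2, Category.assoc]⟩ }
  have hp := IsSeparated.valuativeCriterion p S2
  have hfac1 : Spec.map (CommRingCat.ofHom (algebraMap R (X.residueField x))) ≫ l ≫ j =
      X.fromSpecResidueField x ≫ j := by
    rw [← Category.assoc, hl1]
  have hfac2 : (l ≫ j) ≫ p = g ≫ p := by
    rw [Category.assoc, hcomm, hl2]
  have key : l ≫ j = g := by
    have := @Subsingleton.elim _ hp ⟨l ≫ j, hfac1, hfac2⟩ ⟨g, hg2, rfl⟩
    exact congrArg CommSq.LiftStruct.l this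
  refine ⟨l (closedPoint R), ?_⟩
  rw [← hg1, ← key]
  exact (Scheme.Hom.comp_apply _ _ _).symm

/-- The theorem over a quasi-compact and quasi-separated base. -/
theorem exists_isProper_restrict_of_compact [IsLocallyNoetherian S] [CompactSpace S]
    [QuasiSeparatedSpace S] (f : X ⟶ S)
    [Flat f] [IsSeparated f] [LocallyOfFiniteType f] [QuasiCompact f]
    (hgen : ∀ η : S, IsMaxPt η → Nonempty ↥(f.fiber η) →
      GeometricallyConnected (f.fiberToSpecResidueField η))
    (s : S) (hne : Nonempty ↥(f.fiber s)) (hs : IsProper (f.fiberToSpecResidueField s)) :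
    ∃ U : S.Opens, s ∈ U ∧ IsProper (f ∣_ U) := by
  obtain ⟨P, j, p, _, _, _, hfac⟩ := S0384.result f
  exact exists_isProper_restrict f j p hfac s
    (fun z hz hzs => mem_range f hgen s hne hs j p hfac z hz hzs)

theorem main [IsLocallyNoetherian S] (f : X ⟶ S)
    [Flat f] [IsSeparated f] [LocallyOfFiniteType f] [QuasiCompact f]
    (hgen : ∀ η : S, IsMaxPt η → Nonempty ↥(f.fiber η) →
      GeometricallyConnected (f.fiberToSpecResidueField η))
    (s : S) (hne : Nonempty ↥(f.fiber s)) (hs : IsProper (f.fiberToSpecResidueField s)) :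
    ∃ U : S.Opens, s ∈ U ∧ IsProper (f ∣_ U) := by
  obtain ⟨W, hWaff, hsW'⟩ : ∃ W : S.Opens, IsAffine W ∧ s ∈ W := by
    obtain ⟨W, hW, hsW, -⟩ := S.isBasis_affineOpens.exists_subset_of_mem_open
      (Set.mem_univ s) isOpen_univ
    obtain ⟨W, hWa, rfl⟩ := hW
    exact ⟨W, hWa, hsW⟩
  have sq := (isPullback_morphismRestrict f W).flip
  have i1 : Flat (f ∣_ W) := MorphismProperty.of_isPullback sq ‹_›
  have i2 : IsSeparated (f ∣_ W) := MorphismProperty.of_isPullback sq ‹_›
  have i3 : LocallyOfFiniteType (f ∣_ W) := MorphismProperty.of_isPullback sq ‹_›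
  have i4 : QuasiCompact (f ∣_ W) := MorphismProperty.of_isPullback sq ‹_›
  have i5 : IsLocallyNoetherian (W : Scheme.{u}) := inferInstance
  have hgen' : ∀ η : (W : Scheme.{u}), IsMaxPt η → Nonempty ↥((f ∣_ W).fiber η) →
      GeometricallyConnected ((f ∣_ W).fiberToSpecResidueField η) := by
    intro η hη hne'
    refine MorphismProperty.of_isPullback
      (isPullback_fiberToSpecResidueField_of_isPullback sq η) ?_
    refine hgen _ ?_ ?_
    · exact IsMaxPt.map_of_isEmbedding W.ι.isOpenEmbedding.isEmbedding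
        W.ι.isOpenEmbedding.isOpen_range.stableUnderGeneralization hη
    · obtain ⟨x⟩ := hne'
      exact ⟨(pullback.map _ _ _ _ ((f ⁻¹ᵁ W).ι) (Spec.map (W.ι.residueFieldMap η)) W.ι
        sq.w.symm (Scheme.Hom.SpecMap_residueFieldMap_fromSpecResidueField W.ι η).symm) x⟩
  obtain ⟨U, hU, hp⟩ := exists_isProper_restrict_of_compact (f ∣_ W) hgen'
    ⟨s, hsW'⟩ (nonempty_fiber_of_isPullback sq _ hne)
    (MorphismProperty.of_isPullback
      (isPullback_fiberToSpecResidueField_of_isPullback sq (⟨s, hsW'⟩ : W)) hs)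
  refine ⟨W.ι ''ᵁ U, ⟨_, hU, rfl⟩, ?_⟩
  exact (MorphismProperty.arrow_mk_iso_iff @IsProper (morphismRestrictRestrict f W U)).mp hp

end K132.ProperFlat
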