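import Groth.Agent.EGA43.K132.ProperFlat
import Groth.Agent.Smoothlim.SmoothLocusBC

/-!
# Properness, smoothness and geometric connectedness from the fibres
-/

set_option autoImplicit false
universe u

open CategoryTheory CategoryTheory.Limits AlgebraicGeometry Groth.Agent IsLocalRing

namespace K132.SmoothProperFib

open Ega43.MaxPoints

variable {X S : Scheme.{u}}

theorem nonempty_fiber (f : X ⟶ S) [Surjective f] (s : S) : Nonempty ↥(f.fiber s) := by
  obtain ⟨x, rfl⟩ := f.surjective s
  exact ⟨f.asFiber x⟩

theorem isProper [IsLocallyNoetherian S] (f : X ⟶ S)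
    [Flat f] [IsSeparated f] [LocallyOfFiniteType f] [QuasiCompact f]
    (hgen : ∀ η : S, IsMaxPt η → Nonempty ↥(f.fiber η) →
      GeometricallyConnected (f.fiberToSpecResidueField η))
    (hne : ∀ s : S, Nonempty ↥(f.fiber s))
    (hs : ∀ s : S, IsProper (f.fiberToSpecResidueField s)) : IsProper f := by
  choose U hU hp using fun s => ProperFlat.main f hgen s (hne s) (hs s)
  refine (IsZariskiLocalAtTarget.iff_of_iSup_eq_top (P := @IsProper) U ?_).mpr hp
  rw [eq_top_iff]
  intro s _
  exact TopologicalSpace.Opens.mem_iSup.mpr ⟨s, hU s⟩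

theorem smooth (f : X ⟶ S) [Flat f] [LocallyOfFinitePresentation f]
    (hsm : ∀ s : S, Smooth (f.fiberToSpecResidueField s)) : Smooth f := by
  rw [← Scheme.Hom.smoothLocus_eq_top_iff, eq_top_iff]
  intro x _
  have h4 := Groth.Agent.Smoothlim.SmoothLocusBC.mem_smoothLocus_iff_of_isPullback
    (IsPullback.of_hasPullback f (S.fromSpecResidueField (f x))) (f.asFiber x)
    (Or.inl (Flat.stalkMap f _))
  have h5 := h4.mp (by
    have : Smooth (pullback.snd f (S.fromSpecResidueField (f x))) := hsm (f x)
    rw [Scheme.Hom.smoothLocus_eq_top_iff.mpr this]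
    trivial)
  have h6 : pullback.fst f (S.fromSpecResidueField (f x)) (f.asFiber x) = x :=
    f.fiberι_asFiber x
  rw [h6] at h5
  exact h5

end K132.SmoothProperFib
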